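import Cfsg.Agent.H57.SympFour.Polar

/-!
The stabiliser of a pair of complementary totally isotropic planes is maximal.
-/

set_option autoImplicit false
open Cfsg

namespace Cfsg.Agent.H57.SympFour

open scoped MatrixGroups Matrix
open Matrix Cfsg.Agent.H95
open Cfsg.Agent.Symplectic hiding Polar Short long_of_mixed rootIn_of_long exists_polar_swap long_of_short_same exists_short_move

theorem polar_main {ι : Type} [Fintype ι] [DecidableEq ι] {F : Type*} [Field F] [Fintype F]
    (h2 : (2 : F) ≠ 0) (hq : ∃ t : F, t ≠ 0 ∧ t ^ 2 ≠ 1) (hι : Fintype.card ι = 4)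
    {f : (ι → F) → (ι → F) → F} (hf : Geo.IsSymplecticForm f) (D : Fin 2 → Submodule F (ι → F))
    (hD : Geo.IsMDecomposition 2 D) (hts : ∀ i, Geo.IsTotallySingularFor f (D i)) :
    Geo.IsMaximalIn (isoGrp f) (Geo.decompositionStabilizer D ⊓ isoGrp f) := by
  set S := Geo.decompositionStabilizer D ⊓ isoGrp f with hS
  have hinj : ∀ g : GL ι F, Function.Injective (Matrix.toLin' (g : Matrix ι ι F)) := fun g x y e => by
    simp only [Matrix.toLin'_apply] at e
    exact gl_mulVec_injective g e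
  have hmemS : ∀ g : GL ι F, g ∈ isoGrp f → ∀ σ : Fin 2 → Fin 2, Function.Injective σ →
      (∀ i, ∀ x ∈ D i, (g : Matrix ι ι F) *ᵥ x ∈ D (σ i)) → g ∈ S := by
    intro g hg σ hσ h
    refine ⟨⟨Equiv.ofBijective σ (Finite.injective_iff_bijective.1 hσ), fun i => ?_⟩, hg⟩
    refine Submodule.eq_of_le_of_finrank_eq ?_ ?_
    · rintro _ ⟨x, hx, rfl⟩
      simpa using h i x hx
    · rw [← (Submodule.equivMapOfInjective _ (hinj g) (D i)).finrank_eq, hD.finrank_eq,
        hD.finrank_eq]
  have hc : ∀ i j : Fin 2, i ≠ j → IsCompl (D i) (D j) := by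
    intro i j hij
    have hd : D i ⊓ D j = ⊥ := (hD.indep.pairwiseDisjoint hij).eq_bot
    refine ⟨disjoint_iff.2 hd, codisjoint_iff.2 (Submodule.eq_top_of_finrank_eq ?_)⟩
    have := Submodule.finrank_sup_add_finrank_inf_eq (D i) (D j)
    rw [hd, finrank_bot, hD.finrank_eq, hD.finrank_eq] at this
    rw [Module.finrank_fintype_fun_eq_card, hι]
    omega
  have hP : ∀ i j : Fin 2, i ≠ j → Polar f (D i) (D j) := fun i j hij =>
    ⟨hts i, hts j, hc i j hij, hD.finrank_eq i, hD.finrank_eq j⟩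
  have hthS : ∀ i j : Fin 2, i ≠ j → ∀ u ∈ D i, ∀ v ∈ D j, f u v = 0 → ∀ c : F,
      th hf u v c ∈ S := by
    intro i j hij u hu v hv huv c
    refine hmemS _ (th_mem_iso hf u v c) id Function.injective_id fun k x hx => ?_
    rw [th_mulVec hf huv]
    rcases eq_or_ne k i with rfl | hki
    · rw [hts k x hx u hu, mul_zero, zero_smul, add_zero]
      exact (D k).add_mem hx ((D k).smul_mem _ hu)
    · have : k = j := by omega
      subst this
      rw [hts k x hx v hv, mul_zero, zero_smul, add_zero]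
      exact (D k).add_mem hx ((D k).smul_mem _ hv)
  have hdS : ∀ i j : Fin 2, i ≠ j → ∀ u ∈ D i, ∀ v ∈ D j, f u v = 1 → ∀ t : F, t ≠ 0 →
      dil hf u v t ∈ S := by
    intro i j hij u hu v hv huv t ht
    refine hmemS _ (dil_mem_iso hf u v t) id Function.injective_id fun k x hx => ?_
    rw [dil_apply hf huv ht]
    rcases eq_or_ne k i with rfl | hki
    · rw [hts k u hu x hx, mul_zero, zero_smul, add_zero]
      exact (D k).add_mem hx ((D k).smul_mem _ hu)
    · have : k = j := by omega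
      subst this
      rw [hts k x hx v hv, mul_zero, zero_smul, add_zero]
      exact (D k).add_mem hx ((D k).smul_mem _ hv)
  have h01 : (0 : Fin 2) ≠ 1 := by decide
  have hne : ∀ i, D i ≠ ⊥ := fun i e => by
    have := hD.finrank_eq i
    rw [e, finrank_bot] at this
    omega
  refine ⟨lt_of_le_of_ne inf_le_right fun hEq => ?_, fun M hSM hMS => ?_⟩
  · obtain ⟨b, hb, hb0⟩ := (D 1).ne_bot_iff.1 (hne 1)
    obtain ⟨y, hy⟩ := exists_f_eq_one hf hb0
    obtain ⟨p, hp, q, hq, rfl⟩ := (hP 0 1 h01).exists_split y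
    rw [f_add_right hf, hts 1 b hb q hq, add_zero] at hy
    have h : rt hf b 1 ∈ S := hEq.symm ▸ rt_mem_iso hf b 1
    obtain ⟨σ, hσ⟩ := h.1
    have h1 : (rt hf b 1 : Matrix ι ι F) *ᵥ p ∈ D (σ 0) := by
      rw [← hσ]; exact ⟨p, hp, by simp⟩
    rw [rt_mulVec hf, f_skew hf p b, hy] at h1
    have hp0 : p ≠ 0 := by rintro rfl; simp [f_zero_right hf] at hy
    have dis := fun x (hx0 : x ∈ D 0) (hx1 : x ∈ D 1) =>
      Submodule.disjoint_def.1 (hc 0 1 h01).disjoint x hx0 hx1
    rcases eq_or_ne (σ 0) 0 with e | e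
    · rw [e] at h1
      have := (D 0).sub_mem h1 hp
      rw [add_sub_cancel_left] at this
      exact hb0 (by simpa using dis _ this ((D 1).smul_mem _ hb))
    · rw [show σ 0 = 1 by omega] at h1
      have := (D 1).sub_mem h1 ((D 1).smul_mem ((1 : F) * -1) hb)
      rw [add_sub_cancel_right] at this
      exact hp0 (dis p hp this)
  by_cases hM : M ≤ S
  · exact Or.inl (le_antisymm hM hSM)
  refine Or.inr (le_antisymm hMS ?_)
  obtain ⟨g, hgM, hgS⟩ := SetLike.not_le_iff_exists.1 hM
  have hgi : g ∈ isoGrp f := hMS hgM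
  have hShort : ∀ i j : Fin 2, i ≠ j → Short hf (D i) (D j) M := fun i j hij u hu v hv huv c =>
    hSM (hthS i j hij u hu v hv huv c)
  -- a vector with mixed image
  obtain ⟨i, a, ha, hmix⟩ : ∃ i, ∃ a ∈ D i, ∀ j, (g : Matrix ι ι F) *ᵥ a ∉ D j := by
    by_contra hcon
    push Not at hcon
    have hone : ∀ i, ∃ j, ∀ x ∈ D i, (g : Matrix ι ι F) *ᵥ x ∈ D j := by
      intro i
      by_contra hn
      push Not at hn
      obtain ⟨x, hx, hx0⟩ := hn 0
      obtain ⟨y, hy, hy1⟩ := hn 1
      obtain ⟨k, hk⟩ := hcon i (x + y) ((D i).add_mem hx hy)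
      obtain ⟨kx, hkx⟩ := hcon i x hx
      obtain ⟨ky, hky⟩ := hcon i y hy
      have ex : kx = 1 := by
        by_contra h; exact hx0 (by rwa [show kx = 0 by omega] at hkx)
      have ey : ky = 0 := by
        by_contra h; exact hy1 (by rwa [show ky = 1 by omega] at hky)
      subst ex ey
      rw [mulVec_add] at hk
      rcases eq_or_ne k 0 with rfl | hk0
      · exact hx0 (by simpa using (D 0).sub_mem hk hky)
      · rw [show k = 1 by omega] at hk
        exact hy1 (by simpa using (D 1).sub_mem hk hkx)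
    choose σ hσ using hone
    refine hgS (hmemS g hgi σ ?_ hσ)
    intro i j hij
    by_contra hne'
    have hle : (⊤ : Submodule F (ι → F)).map (Matrix.toLin' (g : Matrix ι ι F)) ≤ D (σ i) := by
      rw [← (hc i j hne').sup_eq_top, Submodule.map_sup, sup_le_iff]
      constructor
      · rintro _ ⟨x, hx, rfl⟩; simpa using hσ i x hx
      · rintro _ ⟨x, hx, rfl⟩; simpa [hij] using hσ j x hx
    have h1 := Submodule.finrank_mono hle
    rw [← (Submodule.equivMapOfInjective _ (hinj g) _).finrank_eq, finrank_top,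
      Module.finrank_fintype_fun_eq_card, hι, hD.finrank_eq] at h1
    omega
  obtain ⟨j, hji⟩ : ∃ j : Fin 2, j ≠ i := exists_ne i
  obtain ⟨b, hb, hb0, hab⟩ := (hP i j hji.symm).exists_perp hf a
  have ha0 : a ≠ 0 := fun e => hmix 0 (by rw [e, mulVec_zero]; exact (D 0).zero_mem)
  have hk : th hf ((g : Matrix ι ι F) *ᵥ a) ((g : Matrix ι ι F) *ᵥ b) 1 ∈ M := by
    rw [← conj_th hf hgi]
    exact conj_mem hgM (hShort i j hji.symm a ha b hb hab 1)
  have hlong := long_of_mixed hf h2 hq (hP 0 1 h01) (hShort 0 1 h01)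
    (fun u hu v hv huv t ht => hSM (hdS 0 1 h01 u hu v hv huv t ht)) (hmix 0)
    (hmix 1) (fun t e => hb0 (by
      rw [← mulVec_smul] at e
      have e' := gl_mulVec_injective g e
      exact Submodule.disjoint_def.1 (hc i j hji.symm).disjoint b (e' ▸ (D i).smul_mem t ha) hb))
    (by rw [mem_isoGrp.1 hgi, hab]) hk
  -- both sides carry root groups
  obtain ⟨k, hk⟩ : ∃ k : Fin 2, ∀ v ∈ D k, RootIn hf M v := by
    rcases hlong with ⟨y, hy, hy0, l, hl, h⟩ | ⟨y, hy, hy0, l, hl, h⟩
    · exact ⟨0, rootIn_of_long hf h2 (hP 1 0 h01.symm) (hShort 1 0 h01.symm) hy hy0 hl h⟩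
    · exact ⟨1, rootIn_of_long hf h2 (hP 0 1 h01) (hShort 0 1 h01) hy hy0 hl h⟩
  obtain ⟨k', hk'⟩ : ∃ k', k' ≠ k := exists_ne k
  have hall2 : ∀ v ∈ D k', RootIn hf M v := by
    obtain ⟨w, hw, hw'⟩ := exists_polar_swap hf (hP k k' hk'.symm)
      (by rw [hD.finrank_eq, hD.finrank_eq])
    have hwS : w ∈ S := hmemS w hw (Equiv.swap k k') (Equiv.injective _) fun i x hx => by
      rcases eq_or_ne i k with rfl | hik
      · rw [Equiv.swap_apply_left]; exact hw'.1 x hx
      · have : i = k' := by omega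
        subst this
        rw [Equiv.swap_apply_right]; exact hw'.2 x hx
    intro v hv
    obtain ⟨u, hu, rfl⟩ : ∃ u ∈ D k, (w : Matrix ι ι F) *ᵥ u = v := by
      refine ⟨((w⁻¹ : GL ι F) : Matrix ι ι F) *ᵥ v, ?_, mulVec_inv_mulVec w v⟩
      have hmap : (D k).map (Matrix.toLin' (w : Matrix ι ι F)) = D k' := by
        refine Submodule.eq_of_le_of_finrank_eq ?_ ?_
        · rintro _ ⟨x, hx, rfl⟩; simpa using hw'.1 x hx
        · rw [← (Submodule.equivMapOfInjective _ (hinj w) _).finrank_eq, hD.finrank_eq,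
            hD.finrank_eq]
      rw [← hmap] at hv
      obtain ⟨u, hu, rfl⟩ := hv
      rwa [Matrix.toLin'_apply, inv_mulVec_mulVec]
    exact (hk u hu).conj hf (hSM hwS) hw
  refine iso_le_of_roots hf fun x => ?_
  obtain ⟨p, hp, q, hq, rfl⟩ := (hP k k' hk'.symm).exists_split x
  by_cases hpq : f p q = 0
  · intro l
    have e : rt hf (p + q) l = th hf p q l * rt hf q l * rt hf p l := by
      refine gl_ext fun x => ?_
      simp only [mul_mulVec, rt_mulVec hf, th_mulVec hf hpq, f_add_left hf, f_add_right hf,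
        f_smul_left hf, f_self hf, hpq, f_symm_zero hf hpq]
      module
    rw [e]
    exact M.mul_mem (M.mul_mem (hShort k k' hk'.symm p hp q hq hpq l) (hall2 q hq l)) (hk p hp l)
  · have := (hk p hp).step hf (hall2 q hq) (f p q)⁻¹
    rwa [inv_mul_cancel₀ hpq, one_smul] at this

end Cfsg.Agent.H57.SympFour
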