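import Cfsg.Agent.H57.SympFour.Skew
import Cfsg.Agent.S5665

/-!
The normaliser of a quadratic field of skew matrices is maximal in the symplectic group of
dimension four over at least five elements.
-/

set_option autoImplicit false
open Cfsg

namespace Cfsg.Agent.H57.SympFour

open scoped MatrixGroups Matrix
open Matrix Cfsg.Agent.H95 Cfsg.Agent.Symplectic
open Cfsg.Agent.S5665 (exists_skew)

variable {ι : Type} [Fintype ι] [DecidableEq ι] {F : Type*} [Field F]
  {f : (ι → F) → (ι → F) → F} {j : Matrix ι ι F} {d : F} (C : SkewStr f j d)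

/-- Two quadratic polynomials avoid zero at a common point, with at least five to choose from. -/
theorem exists_avoid [Finite F] (hq : 5 ≤ Nat.card F) {a b c a' b' c' : F}
    (h : a ≠ 0 ∨ b ≠ 0 ∨ c ≠ 0) (h' : a' ≠ 0 ∨ b' ≠ 0 ∨ c' ≠ 0) :
    ∃ t : F, a * t ^ 2 + b * t + c ≠ 0 ∧ a' * t ^ 2 + b' * t + c' ≠ 0 := by
  classical
  haveI := Fintype.ofFinite F
  rw [Nat.card_eq_fintype_card] at hq
  have few : ∀ a b c : F, a ≠ 0 ∨ b ≠ 0 ∨ c ≠ 0 →
      (Finset.univ.filter fun t => a * t ^ 2 + b * t + c = 0).card ≤ 2 := by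
    intro a b c h
    by_contra hcard
    push Not at hcard
    obtain ⟨x, hx, y, hy, z, hz, xy, xz, yz⟩ := Finset.two_lt_card.1 hcard
    simp only [Finset.mem_filter, Finset.mem_univ, true_and] at hx hy hz
    have e1 : a * (x + y) + b = 0 := (mul_eq_zero.1
      (show (x - y) * (a * (x + y) + b) = 0 by linear_combination hx - hy)).resolve_left
        (sub_ne_zero.2 xy)
    have e2 : a * (x + z) + b = 0 := (mul_eq_zero.1
      (show (x - z) * (a * (x + z) + b) = 0 by linear_combination hx - hz)).resolve_left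
        (sub_ne_zero.2 xz)
    have ha : a = 0 := (mul_eq_zero.1
      (show (y - z) * a = 0 by linear_combination e1 - e2)).resolve_left (sub_ne_zero.2 yz)
    have hb : b = 0 := by linear_combination e1 - (x + y) * ha
    rcases h with h | h | h
    · exact h ha
    · exact h hb
    · exact h (by linear_combination hx - x ^ 2 * ha - x * hb)
  by_contra hcon
  push Not at hcon
  have hle : (Finset.univ : Finset F) ⊆ (Finset.univ.filter fun t => a * t ^ 2 + b * t + c = 0) ∪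
      Finset.univ.filter fun t => a' * t ^ 2 + b' * t + c' = 0 := by
    intro t _
    simp only [Finset.mem_union, Finset.mem_filter, Finset.mem_univ, true_and]
    by_cases ht : a * t ^ 2 + b * t + c = 0
    · exact .inl ht
    · exact .inr (hcon t ht)
  have h1 := (Finset.card_le_card hle).trans (Finset.card_union_le _ _)
  have h3 := few a b c h
  have h4 := few a' b' c' h'
  rw [Finset.card_univ] at h1
  omega

include C in
/-- An isometry taking every anisotropic line to a line or to a singular plane is semilinear. -/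
theorem exists_sign [Finite F] (h2 : (2 : F) ≠ 0) (hn : Fintype.card ι = 4) (hq : 5 ≤ Nat.card F)
    {g : GL ι F} (hg : g ∈ isoGrp f)
    (h : ∀ b, f b (j *ᵥ b) ≠ 0 →
      f ((g : Matrix ι ι F) *ᵥ b) (j *ᵥ ((g : Matrix ι ι F) *ᵥ b)) ≠ 0 →
      (g : Matrix ι ι F) *ᵥ (j *ᵥ b) ∈
      Submodule.span F {(g : Matrix ι ι F) *ᵥ b, j *ᵥ ((g : Matrix ι ι F) *ᵥ b)}) :
    ∃ q : F, q ≠ 0 ∧
      ∀ x, j *ᵥ ((g : Matrix ι ι F) *ᵥ x) = q • ((g : Matrix ι ι F) *ᵥ (j *ᵥ x)) := by
  have hf := C.symp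
  set T : Matrix ι ι F := ((g⁻¹ : GL ι F) : Matrix ι ι F) * j * (g : Matrix ι ι F) with hTdef
  have hgT : ∀ x, (g : Matrix ι ι F) *ᵥ (T *ᵥ x) = j *ᵥ ((g : Matrix ι ι F) *ᵥ x) := fun x => by
    rw [hTdef, ← mulVec_mulVec, ← mulVec_mulVec, mulVec_inv_mulVec]
  have Tskew : ∀ x y, f (T *ᵥ x) y = -f x (T *ᵥ y) := fun x y => by
    rw [← mem_isoGrp.1 hg (T *ᵥ x), ← mem_isoGrp.1 hg x, hgT, hgT, C.skew]
  have Tsymm : ∀ x y, f x (T *ᵥ y) = f y (T *ᵥ x) := fun x y => by
    rw [f_skew hf x, Tskew, neg_neg]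
  have Tsq : ∀ x, T *ᵥ (T *ᵥ x) = d • x := fun x => by
    refine gl_mulVec_injective g ?_
    show (g : Matrix ι ι F) *ᵥ _ = (g : Matrix ι ι F) *ᵥ _
    rw [hgT, hgT, C.sq, mulVec_smul]
  have Tne : ∀ x, x ≠ 0 → ∀ s : F, T *ᵥ x ≠ s • x := by
    intro x hx s e
    have h1 := Tsq x
    rw [e, mulVec_smul, e, smul_smul] at h1
    have : (s * s - d) • x = 0 := by rw [sub_smul, h1, sub_self]
    exact C.nsq s (by linear_combination (smul_eq_zero.1 this).resolve_right hx)
  have good : ∀ x, f x (j *ᵥ x) ≠ 0 → f x (T *ᵥ x) ≠ 0 →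
      ∃ p r : F, T *ᵥ x = p • x + r • (j *ᵥ x) := by
    intro x hx hTx
    obtain ⟨s, t, e⟩ := Submodule.mem_span_pair.1 (h x hx (by
      rw [← hgT, mem_isoGrp.1 hg]; exact hTx))
    rw [← hgT, ← mulVec_smul, ← mulVec_smul, ← mulVec_add] at e
    have e' := gl_mulVec_injective g e
    rcases eq_or_ne t 0 with rfl | ht
    · rw [zero_smul, add_zero] at e'
      exact absurd e'.symm (C.j_ne_smul (C.norm_ne hx) s)
    · refine ⟨-(t⁻¹ * s), t⁻¹, ?_⟩
      rw [← e', smul_add, inv_smul_smul₀ ht, smul_smul]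
      module
  haveI : Nonempty ι := Fintype.card_pos_iff.1 (by omega)
  obtain ⟨b0, hb0⟩ : ∃ b, f b (j *ᵥ b) ≠ 0 := by
    obtain ⟨i⟩ := ‹Nonempty ι›
    have hout : Pi.single i (1 : F) ∉
        Submodule.span F ({(0 : ι → F), j *ᵥ (0 : ι → F)} : Set (ι → F)) := by
      simpa [mulVec_zero] using (fun h => one_ne_zero (α := F) (by simpa using congrFun h i) :
        Pi.single i (1 : F) ≠ 0)
    obtain ⟨b, hb, -⟩ := exists_aniso C h2 hn.ge (.inl rfl) hout
    exact ⟨b, hb⟩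
  obtain ⟨x0, hx0⟩ : ∃ x, f x (T *ᵥ x) ≠ 0 := by
    by_contra hc
    push Not at hc
    have hTb : T *ᵥ b0 ≠ 0 := fun e => Tne b0 (C.norm_ne hb0) 0 (by rw [e, zero_smul])
    obtain ⟨y, hy⟩ := exists_f_eq_one hf hTb
    have h1 := hc (b0 + y)
    simp only [mulVec_add, f_add_left hf, f_add_right hf, hc b0, hc y, Tsymm b0 y,
      f_skew hf y (T *ᵥ b0), hy] at h1
    exact h2 (by linear_combination -h1)
  obtain ⟨b, hb, hTb⟩ : ∃ b, f b (j *ᵥ b) ≠ 0 ∧ f b (T *ᵥ b) ≠ 0 := by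
    obtain ⟨t, t1, t2⟩ := exists_avoid hq (a := f b0 (j *ᵥ b0)) (b := 2 * f x0 (j *ᵥ b0))
      (c := f x0 (j *ᵥ x0)) (a' := f b0 (T *ᵥ b0)) (b' := 2 * f x0 (T *ᵥ b0))
      (c' := f x0 (T *ᵥ x0)) (.inl hb0) (.inr (.inr hx0))
    refine ⟨x0 + t • b0, ?_, ?_⟩
    · convert t1 using 1
      simp only [mulVec_add, mulVec_smul, f_add_left hf, f_add_right hf, f_smul_left hf,
        f_smul_right hf, C.h_symm b0 x0]
      ring
    · convert t2 using 1
      simp only [mulVec_add, mulVec_smul, f_add_left hf, f_add_right hf, f_smul_left hf,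
        f_smul_right hf, Tsymm b0 x0]
      ring
  obtain ⟨p, r, Tb⟩ := good b hb hTb
  have hr : r ≠ 0 := fun e => Tne b (C.norm_ne hb) p (by rw [Tb, e, zero_smul, add_zero])
  have Tjb : T *ᵥ (j *ᵥ b) = r⁻¹ • (d • b - p • (T *ᵥ b)) := by
    have e := Tsq b
    rw [Tb, mulVec_add, mulVec_smul, mulVec_smul] at e
    rw [← e, add_sub_cancel_left, inv_smul_smul₀ hr]
  -- the orthogonal line
  obtain ⟨z, hz⟩ : ∃ z, z ∉ Submodule.span F ({b, j *ᵥ b} : Set (ι → F)) := by
    by_contra hcon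
    push Not at hcon
    have h1 := Submodule.finrank_mono (fun x (_ : x ∈ (⊤ : Submodule F (ι → F))) => hcon x)
    classical
    have h5 := finrank_span_finset_le_card (R := F) ({b, j *ᵥ b} : Finset (ι → F))
    rw [Set.finrank, Finset.coe_insert, Finset.coe_singleton] at h5
    have h6 := (Finset.card_le_two (a := b) (b := j *ᵥ b))
    rw [finrank_top, Module.finrank_fintype_fun_eq_card] at h1
    omega
  obtain ⟨c, hc, bc, bjc, -⟩ := exists_aniso C h2 hn.ge (.inr hb) hz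
  have cb := f_symm_zero hf bc
  have cjb : f c (j *ᵥ b) = 0 := by rw [← C.h_symm, bjc]
  have jcb : f (j *ᵥ c) b = 0 := f_symm_zero hf bjc
  have jbc : f (j *ᵥ b) c = 0 := f_symm_zero hf cjb
  have jbjc : f (j *ᵥ b) (j *ᵥ c) = 0 := by rw [C.f_jj, bc, mul_zero, neg_zero]
  have jcjb := f_symm_zero hf jbjc
  have decomp : ∀ x, x = cproj f j b x + cproj f j c x := by
    let L : (ι → F) →ₗ[F] (Fin 4 → F) :=
      { toFun := fun x => ![f x b, f x (j *ᵥ b), f x c, f x (j *ᵥ c)]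
        map_add' := fun x y => by ext i; fin_cases i <;> simp [f_add_left hf]
        map_smul' := fun t x => by ext i; fin_cases i <;> simp [f_smul_left hf] }
    have hsurj : Function.Surjective L := by
      intro w
      refine ⟨(w 1 / f b (j *ᵥ b)) • b + (w 0 / -f b (j *ᵥ b)) • (j *ᵥ b) +
        ((w 3 / f c (j *ᵥ c)) • c + (w 2 / -f c (j *ᵥ c)) • (j *ᵥ c)), ?_⟩
      ext i
      fin_cases i <;> simp [L, f_add_left hf, f_smul_left hf, f_self hf, bc, bjc, cb, cjb, jcb,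
        jbc, jbjc, jcjb, f_skew hf (j *ᵥ b) b, f_skew hf (j *ᵥ c) c, hb, hc] <;> field_simp
    have hinj := (LinearMap.injective_iff_surjective_of_finrank_eq_finrank (f := L)
      (by rw [Module.finrank_fintype_fun_eq_card, Module.finrank_fin_fun, hn])).2 hsurj
    intro x
    apply hinj
    ext i
    fin_cases i <;> simp [L, cproj, f_add_left hf, f_smul_left hf, f_sub_left hf, f_self hf, bc,
      bjc, cb, cjb, jcb, jbc, jbjc, jcjb, f_skew hf (j *ᵥ b) b, f_skew hf (j *ᵥ c) c, hb, hc] <;> field_simp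
  have Tjb0 : ∀ w, f w b = 0 → f w (j *ᵥ b) = 0 →
      f (T *ᵥ w) b = 0 ∧ f (T *ᵥ w) (j *ᵥ b) = 0 := by
    intro w w1 w2
    constructor
    · simp only [Tskew, Tb, f_add_right hf, f_smul_right hf, w1, w2]; ring
    · simp only [Tskew, Tjb, Tb, f_sub_right hf, f_smul_right hf, f_add_right hf, w1, w2]; ring
  have inc : ∀ w, f w b = 0 → f w (j *ᵥ b) = 0 → ∃ s t : F, w = s • c + t • (j *ᵥ c) := by
    intro w w1 w2
    refine ⟨(f c (j *ᵥ c))⁻¹ * f w (j *ᵥ c), -((f c (j *ᵥ c))⁻¹ * f w c), ?_⟩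
    conv_lhs => rw [decomp w]
    simp only [cproj, w1, w2]
    module
  have nne : ∀ w, f w b = 0 → f w (j *ᵥ b) = 0 → w ≠ 0 → f w (j *ᵥ w) ≠ 0 := by
    intro w w1 w2 w0 e
    obtain ⟨s, t, rfl⟩ := inc w w1 w2
    simp only [mulVec_add, mulVec_smul, C.sq, f_add_left hf, f_add_right hf, f_smul_left hf,
      f_smul_right hf, f_self hf, f_skew hf (j *ᵥ c) c] at e
    have e' := (mul_eq_zero.1 (show (s ^ 2 - d * t ^ 2) * f c (j *ᵥ c) = 0 by
      linear_combination e)).resolve_right hc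
    rcases eq_or_ne t 0 with rfl | ht
    · exact w0 (by rw [pow_eq_zero_iff two_ne_zero |>.1 (show s ^ 2 = 0 by linear_combination e'),
        zero_smul, zero_smul, add_zero])
    · exact C.nsq (s / t) (by field_simp; linear_combination e')
  have Tne0 : ∀ w, f w b = 0 → f w (j *ᵥ b) = 0 → w ≠ 0 → f w (T *ᵥ w) ≠ 0 := by
    intro w w1 w2 w0 e
    obtain ⟨s, t, hst⟩ := inc w w1 w2
    obtain ⟨s', t', hst'⟩ := inc _ (Tjb0 w w1 w2).1 (Tjb0 w w1 w2).2
    rw [hst', hst] at e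
    simp only [f_add_left hf, f_add_right hf, f_smul_left hf, f_smul_right hf, f_self hf,
      f_skew hf (j *ᵥ c) c] at e
    have e' := (mul_eq_zero.1 (show (s * t' - t * s') * f c (j *ᵥ c) = 0 by
      linear_combination e)).resolve_right hc
    rcases eq_or_ne s 0 with rfl | hs
    · rcases eq_or_ne t 0 with rfl | ht
      · exact w0 (by rw [hst, zero_smul, zero_smul, add_zero])
      · have hs' : s' = 0 := (mul_eq_zero.1 (show t * s' = 0 by linear_combination -e')).resolve_left ht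
        apply Tne w w0 (t' / t)
        rw [hst', hs', hst]
        simp only [zero_smul, zero_add, smul_smul, div_mul_cancel₀ t' ht]
    · apply Tne w w0 (s' / s)
      rw [hst', hst, smul_add, smul_smul, smul_smul, div_mul_cancel₀ s' hs,
        show s' / s * t = t' by field_simp; linear_combination -e']
  have step : ∀ y0 y1, f y0 b = 0 → f y0 (j *ᵥ b) = 0 → f y1 b = 0 → f y1 (j *ᵥ b) = 0 → y1 ≠ 0 →
      ∃ t : F, T *ᵥ (y0 + t • y1) = p • (y0 + t • y1) + r • (j *ᵥ (y0 + t • y1)) := by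
    intro y0 y1 a1 a2 a3 a4 hy1
    obtain ⟨t, t1, t2⟩ := exists_avoid hq (a := f y1 (j *ᵥ y1)) (b := 2 * f y0 (j *ᵥ y1))
      (c := f y0 (j *ᵥ y0) + f b (j *ᵥ b)) (a' := f y1 (T *ᵥ y1)) (b' := 2 * f y0 (T *ᵥ y1))
      (c' := f y0 (T *ᵥ y0) + f b (T *ᵥ b)) (.inl (nne y1 a3 a4 hy1)) (.inl (Tne0 y1 a3 a4 hy1))
    set y := y0 + t • y1 with hy
    have y1' : f y b = 0 := by simp [hy, f_add_left hf, f_smul_left hf, a1, a3]
    have y2' : f y (j *ᵥ b) = 0 := by simp [hy, f_add_left hf, f_smul_left hf, a2, a4]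
    obtain ⟨u1, u2⟩ := Tjb0 y y1' y2'
    have byj : f b (j *ᵥ y) = 0 := by rw [C.h_symm, y2']
    have byT : f b (T *ᵥ y) = 0 := f_symm_zero hf u1
    have yTb : f y (T *ᵥ b) = 0 := by rw [Tsymm y b, byT]
    have n1 : f (b + y) (j *ᵥ (b + y)) = f y1 (j *ᵥ y1) * t ^ 2 + 2 * f y0 (j *ᵥ y1) * t +
        (f y0 (j *ᵥ y0) + f b (j *ᵥ b)) := by
      rw [mulVec_add, f_add_left hf, f_add_right hf, f_add_right hf, byj, y2', hy]
      simp only [mulVec_add, mulVec_smul, f_add_left hf, f_add_right hf, f_smul_left hf,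
        f_smul_right hf, C.h_symm y1 y0]
      ring
    have n2 : f (b + y) (T *ᵥ (b + y)) = f y1 (T *ᵥ y1) * t ^ 2 + 2 * f y0 (T *ᵥ y1) * t +
        (f y0 (T *ᵥ y0) + f b (T *ᵥ b)) := by
      rw [mulVec_add, f_add_left hf, f_add_right hf, f_add_right hf, byT, yTb, hy]
      simp only [mulVec_add, mulVec_smul, f_add_left hf, f_add_right hf, f_smul_left hf,
        f_smul_right hf, Tsymm y1 y0]
      ring
    obtain ⟨p', r', e⟩ := good (b + y) (by rwa [n1]) (by rwa [n2])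
    refine ⟨t, ?_⟩
    clear n1 n2
    clear_value y
    simp only [mulVec_add] at e
    rw [Tb] at e
    have y1j : f (j *ᵥ y) b = 0 := f_symm_zero hf byj
    have y2j : f (j *ᵥ y) (j *ᵥ b) = 0 := by rw [C.f_jj, y1', mul_zero, neg_zero]
    have e1 := congrArg (fun w => f w (j *ᵥ b)) e
    have e2 := congrArg (fun w => f w b) e
    simp only [f_add_left hf, f_smul_left hf, f_self hf, y1', y2', y1j, y2j, u1, u2,
      f_skew hf (j *ᵥ b) b] at e1 e2
    have hp : p' = p := mul_right_cancel₀ hb (by linear_combination -e1)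
    have hr' : r' = r := mul_right_cancel₀ hb (by linear_combination e2)
    subst hp hr'
    rw [← hy]
    linear_combination (norm := module) e
  have hc0 : c ≠ 0 := C.norm_ne hc
  obtain ⟨t1, T1⟩ := step (j *ᵥ c) c jcb jcjb cb cjb hc0
  set y := j *ᵥ c + t1 • c with hy
  have hy0 : y ≠ 0 := fun e => C.j_ne_smul hc0 (-t1) (by
    rw [neg_smul]; exact eq_neg_of_add_eq_zero_left e)
  obtain ⟨t2, T2⟩ := step c y cb cjb (by simp [hy, f_add_left hf, f_smul_left hf, jcb, cb])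
    (by simp [hy, f_add_left hf, f_smul_left hf, jcjb, cjb]) hy0
  have Tc : T *ᵥ c = p • c + r • (j *ᵥ c) := by
    rw [mulVec_add, mulVec_smul, T1] at T2
    simp only [mulVec_add, mulVec_smul] at T2 ⊢
    linear_combination (norm := module) T2
  have Tjc : T *ᵥ (j *ᵥ c) = p • (j *ᵥ c) + (r * d) • c := by
    rw [hy, mulVec_add, mulVec_smul, Tc] at T1
    simp only [mulVec_add, mulVec_smul, C.sq] at T1
    linear_combination (norm := module) T1
  have hp : p = 0 := by
    have := Tskew c (j *ᵥ c)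
    rw [Tc, Tjc] at this
    simp only [f_add_left hf, f_add_right hf, f_smul_left hf, f_smul_right hf, f_self hf] at this
    exact (mul_eq_zero.1 (show (2 * f c (j *ᵥ c)) * p = 0 by linear_combination this)).resolve_left
      (mul_ne_zero h2 hc)
  subst hp
  rw [zero_smul, zero_add] at Tb Tc Tjc
  have hr2 : r ^ 2 = 1 := by
    have := Tsq c
    rw [Tc, mulVec_smul, Tjc, smul_smul] at this
    have h5 : (r * (r * d) - d) • c = 0 := by rw [sub_smul, this, sub_self]
    exact mul_right_cancel₀ C.d_ne (by linear_combination (smul_eq_zero.1 h5).resolve_right hc0)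
  have Tjb' : T *ᵥ (j *ᵥ b) = (r * d) • b := by
    rw [Tjb, zero_smul, sub_zero, smul_smul]
    congr 1
    rw [inv_eq_of_mul_eq_one_right (show r * r = 1 by linear_combination hr2)]
  refine ⟨r, hr, fun x => ?_⟩
  rw [← hgT, ← mulVec_smul]
  congr 1
  conv_lhs => rw [decomp x]
  conv_rhs => rw [decomp x]
  simp only [cproj, mulVec_add, mulVec_sub, mulVec_smul, Tb, Tjb', Tc, Tjc, C.sq]
  module

theorem skew_main [Finite F] (h2 : (2 : F) ≠ 0) (hn : Fintype.card ι = 4) (hq : 5 ≤ Nat.card F)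
    {f : (ι → F) → (ι → F) → F} (K : Subalgebra F (Matrix ι ι F)) (hK : Geo.IsFieldSubalgebra 2 K)
    (hf : Geo.IsSymplecticForm f) (hac : Geo.IsAdjointClosedFor f K)
    (hnsa : ¬ Geo.IsSelfAdjointFor f K) :
    Geo.IsMaximalIn (isoGrp f) (Geo.subalgebraNormalizer K ⊓ isoGrp f) := by
  haveI : Nonempty ι := Fintype.card_pos_iff.1 (by omega)
  obtain ⟨j, d, C, hspan⟩ := exists_skew hf h2 hK hac hnsa
  haveI := Fintype.ofFinite F
  set S := Geo.subalgebraNormalizer K ⊓ isoGrp f with hS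
  have hjK : j ∈ K := (hspan j).2 ⟨0, 1, by simp⟩
  have hnorm : ∀ g : GL ι F, g ∈ isoGrp f → ∀ q : F, q ≠ 0 →
      (∀ x, j *ᵥ ((g : Matrix ι ι F) *ᵥ x) = q • ((g : Matrix ι ι F) *ᵥ (j *ᵥ x))) → g ∈ S := by
    intro g hg q hq hc
    have hgj : (g : Matrix ι ι F) * j = q⁻¹ • (j * (g : Matrix ι ι F)) :=
      mat_ext fun x => by
        rw [← mulVec_mulVec, Matrix.smul_mulVec, ← mulVec_mulVec, hc, inv_smul_smul₀ hq]
    have hjg : j * (g : Matrix ι ι F) = q • ((g : Matrix ι ι F) * j) := by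
      rw [hgj, smul_inv_smul₀ hq]
    refine ⟨fun k => ⟨fun hk => ?_, fun hk => ?_⟩, hg⟩
    · obtain ⟨a, b, rfl⟩ := (hspan k).1 hk
      refine (hspan _).2 ⟨a, b * q⁻¹, ?_⟩
      rw [mul_add, mul_smul_comm, mul_smul_comm, mul_one, hgj, add_mul, smul_mul_assoc,
        smul_mul_assoc, smul_mul_assoc, mul_assoc, Units.mul_inv, mul_one, smul_smul]
    · obtain ⟨a, b, hab⟩ := (hspan _).1 hk
      refine (hspan k).2 ⟨a, b * q, ?_⟩
      calc k = ((g⁻¹ : GL ι F) : Matrix ι ι F) * ((g : Matrix ι ι F) * k *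
            ((g⁻¹ : GL ι F) : Matrix ι ι F)) * (g : Matrix ι ι F) := by
            simp [mul_assoc]
        _ = a • (1 : Matrix ι ι F) + (b * q) • j := by
            rw [hab, mul_add, mul_smul_comm, mul_smul_comm, mul_one, add_mul, smul_mul_assoc,
              smul_mul_assoc, mul_assoc _ j, hjg, mul_smul_comm, ← mul_assoc, Units.inv_mul,
              one_mul, smul_smul]
  have hcomm : ∀ g : GL ι F, g ∈ isoGrp f →
      (∀ x, j *ᵥ ((g : Matrix ι ι F) *ᵥ x) = (g : Matrix ι ι F) *ᵥ (j *ᵥ x)) → g ∈ S :=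
    fun g hg hc => hnorm g hg 1 one_ne_zero fun x => by rw [one_smul, hc]
  have hRotS : C.Rots S :=
    ⟨fun a ha t => hcomm _ (C.rot_mem_iso a t) (C.rot_comm ha t),
      fun a ha => hcomm _ (neg2_mem_iso hf _ _) (C.refl_comm ha)⟩
  obtain ⟨a, ha⟩ : ∃ a, f a (j *ᵥ a) ≠ 0 := by
    obtain ⟨i⟩ := ‹Nonempty ι›
    have hout : Pi.single i (1 : F) ∉
        Submodule.span F ({(0 : ι → F), j *ᵥ (0 : ι → F)} : Set (ι → F)) := by
      simpa [mulVec_zero] using (fun h => one_ne_zero (α := F) (by simpa using congrFun h i) :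
        Pi.single i (1 : F) ≠ 0)
    obtain ⟨b, hb, -⟩ := exists_aniso C h2 hn.ge (.inl rfl) hout
    exact ⟨b, hb⟩
  refine ⟨lt_of_le_of_ne inf_le_right fun hEq => ?_, fun M hSM hMK => ?_⟩
  · -- a transvection does not normalise `K`
    have h : rt hf a 1 ∈ S := hEq.symm ▸ rt_mem_iso hf a 1
    obtain ⟨p, q, hpq⟩ := (hspan _).1 ((h.1 j).1 hjK)
    set g := rt hf a 1 with hg
    have hgj : ∀ x, (g : Matrix ι ι F) *ᵥ (j *ᵥ x) =
        p • ((g : Matrix ι ι F) *ᵥ x) + q • (j *ᵥ ((g : Matrix ι ι F) *ᵥ x)) := by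
      intro x
      have h1 : (g : Matrix ι ι F) * j * ((g⁻¹ : GL ι F) : Matrix ι ι F) * (g : Matrix ι ι F) =
          (p • (1 : Matrix ι ι F) + q • j) * (g : Matrix ι ι F) := by rw [hpq]
      rw [mul_assoc _ ((g⁻¹ : GL ι F) : Matrix ι ι F), Units.inv_mul, mul_one] at h1
      have := congrArg (fun N : Matrix ι ι F => N *ᵥ x) h1
      simpa [← mulVec_mulVec, add_mulVec, Matrix.smul_mulVec, one_mulVec] using this
    have hout : a ∉ Submodule.span F ({(0 : ι → F), j *ᵥ (0 : ι → F)} : Set (ι → F)) := by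
      simpa [mulVec_zero] using C.norm_ne ha
    obtain ⟨z, hz, hza⟩ : ∃ z, z ≠ 0 ∧ f z a = 0 ∧ f z (j *ᵥ a) = 0 := by
      by_contra hcon
      push Not at hcon
      let L : (ι → F) →ₗ[F] (Fin 2 → F) :=
        { toFun := fun x => ![f x a, f x (j *ᵥ a)]
          map_add' := fun x y => by ext i; fin_cases i <;> simp [f_add_left hf]
          map_smul' := fun t x => by ext i; fin_cases i <;> simp [f_smul_left hf] }
      have hi : Function.Injective L := by
        rw [← LinearMap.ker_eq_bot, LinearMap.ker_eq_bot']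
        intro x hx
        by_contra hx0
        exact hcon x hx0 (congrFun hx 0) (congrFun hx 1)
      have := LinearMap.finrank_le_finrank_of_injective hi
      rw [Module.finrank_fintype_fun_eq_card, Module.finrank_fin_fun] at this
      omega
    have h1 := hgj z
    rw [hg, rt_fix hf hza.1, rt_fix hf (by rw [C.skew, hza.2, neg_zero])] at h1
    have hq : q = 1 := by
      by_contra hne
      apply C.j_ne_smul hz (p / (1 - q))
      have h3 : (1 - q) • (j *ᵥ z) = p • z := by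
        rw [sub_smul, one_smul]; exact sub_eq_iff_eq_add.2 h1
      rw [div_eq_inv_mul, mul_smul, ← h3, inv_smul_smul₀ (sub_ne_zero.2 (Ne.symm hne))]
    have hp : p = 0 := by
      rw [hq, one_smul] at h1
      exact (smul_eq_zero.1 (by simpa using h1.symm)).resolve_right hz
    have h3 := hgj a
    rw [hq, hp, hg, rt_mulVec hf, rt_fix hf (f_self hf a), C.skew] at h3
    simp only [zero_smul, zero_add, one_smul, add_eq_left] at h3
    exact C.norm_ne ha ((smul_eq_zero.1 h3).resolve_left (by simpa using ha))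
  by_cases hM : M ≤ S
  · exact Or.inl (le_antisymm hM hSM)
  refine Or.inr (le_antisymm hMK ?_)
  obtain ⟨g, hgM, hgS⟩ := SetLike.not_le_iff_exists.1 hM
  have hgi : g ∈ isoGrp f := hMK hgM
  have hR : C.Rots M := ⟨fun a ha t => hSM (hRotS.rot a ha t), fun a ha => hSM (hRotS.refl a ha)⟩
  obtain ⟨b, hb, hgb, hout⟩ : ∃ b, f b (j *ᵥ b) ≠ 0 ∧
      f ((g : Matrix ι ι F) *ᵥ b) (j *ᵥ ((g : Matrix ι ι F) *ᵥ b)) ≠ 0 ∧
      (g : Matrix ι ι F) *ᵥ (j *ᵥ b) ∉
        Submodule.span F {(g : Matrix ι ι F) *ᵥ b, j *ᵥ ((g : Matrix ι ι F) *ᵥ b)} := by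
    by_contra hcon
    push Not at hcon
    obtain ⟨q, hq0, hT⟩ := exists_sign C h2 hn hq hgi hcon
    exact hgS (hnorm g hgi q hq0 hT)
  obtain ⟨r, hr0, hr⟩ := exists_rootIn C h2 hn.ge hR hgM hgi hb hgb hout
  exact iso_le_of_roots hf (rootIn_all_of_one C h2 hn.ge hR hr0 hr)

end Cfsg.Agent.H57.SympFour
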