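import Cfsg.Agent.H39.SympGeoSmall
import Cfsg.Agent.H39.SympRatTwo
import Cfsg.Agent.Symplectic.RationalOdd

/-!
Odd characteristic, any dimension at least four: subfield subgroups of the symplectic group are maximal.
(Copies of the arguments for dimension at least six with a plane orthogonal to one plane only.)
-/

set_option autoImplicit false
open Cfsg

namespace Cfsg.Agent.H57.SympFour

open scoped MatrixGroups Matrix
open Matrix Cfsg.Agent.H95 Cfsg.Agent.Symplectic

section

variable {ι : Type} [Fintype ι] [DecidableEq ι] {F : Type*} [Field F]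
  {f : (ι → F) → (ι → F) → F} {F₀ : Subfield F} {V₀ : AddSubgroup (ι → F)}
  {M : Subgroup (GL ι F)} (R : RatForm f F₀ V₀) (hS : ∀ c ∈ F₀, InA R.symp V₀ M c)
include hS

/-- The two parameters obtained from a rational plane. -/
theorem odd_params (h2 : (2 : F) ≠ 0) (hn : 4 ≤ Fintype.card ι) {w : ι → F}
    (hw : rt R.symp w 1 ∈ M) {u v : ι → F} (hu : u ∈ V₀) (hv : v ∈ V₀) (huv : f u v = 1) :
    ∃ γ : F, γ ≠ 0 ∧ InA R.symp V₀ M (2 * γ * f w u ^ 2) ∧
      InA R.symp V₀ M (8 * γ * f w u * f w v) := by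
  have hf := R.symp
  obtain ⟨γ, hγ, hz⟩ := R.odd_plane hS h2 hw hu hv huv
  refine ⟨γ, hγ, ?_⟩
  set p := f w v with hp
  set q := f w u with hq
  set z := p • u - q • v with hzdef
  obtain ⟨y, hy, y', hy', hyy, yu, yv, -, -⟩ := H39.RatTwo.exists_plane R hn hu hv huv
  have hy0 : y ≠ 0 := by rintro rfl; simp [f_zero_left hf] at hyy
  have uy : f u y = 0 := f_symm_zero hf yu
  have vy : f v y = 0 := f_symm_zero hf yv
  have vu : f v u = -1 := by rw [f_skew hf, huv]
  have zu : f z u = q := by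
    simp only [hzdef, f_sub_left hf, f_smul_left hf, f_self hf, vu]; ring
  have zv : f z v = p := by
    simp only [hzdef, f_sub_left hf, f_smul_left hf, f_self hf, huv]; ring
  have zy : f z y = 0 := by
    simp only [hzdef, f_sub_left hf, f_smul_left hf, uy, vy]; ring
  have yz : f y z = 0 := f_symm_zero hf zy
  have moved : ∀ e ∈ F₀, rt hf (z + (e * q) • y) γ ∈ M := by
    intro e he
    have := conj_mem (th_mem (hS e he) hu hy) hz
    rwa [conj_rt hf (th_mem_iso hf _ _ _), th_mulVec hf uy, zu, zy, mul_zero, zero_smul,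
      add_zero] at this
  have hp1 := moved 1 F₀.one_mem
  have hm1 := moved (-1) (F₀.neg_mem F₀.one_mem)
  constructor
  · refine inA_of_one R hS hy hy0 ?_
    have h1 := M.mul_mem (M.mul_mem hp1 hm1) (M.inv_mem (M.mul_mem hz hz))
    rw [rt_add hf, rt_inv hf] at h1
    convert h1 using 1
    refine gl_ext fun x => ?_
    simp only [mul_mulVec, rt_mulVec hf, f_add_left hf, f_add_right hf, f_smul_left hf,
      f_smul_right hf, f_self hf, zy, yz]
    module
  -- `th z y c`
  set c := 2 * γ * q with hc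
  have hzy : th hf z y c ∈ M := by
    have h1 := M.mul_mem hp1 (M.inv_mem hm1)
    rw [rt_inv hf] at h1
    convert h1 using 1
    refine gl_ext fun x => ?_
    simp only [hc, mul_mulVec, rt_mulVec hf, th_mulVec hf zy, f_add_left hf, f_add_right hf,
      f_smul_left hf, f_smul_right hf, f_self hf, zy, yz]
    module
  have hk3 : th hf v y (c * p) * rt hf y (-(c ^ 2 * p ^ 2)) ∈ M := by
    have h1 := M.mul_mem (conj_mem (R.rt1_mem hS hv) hzy) (M.inv_mem hzy)
    have e1 : (rt hf v 1 : Matrix ι ι F) *ᵥ z = z + p • v := by rw [rt_mulVec hf, zv, one_mul]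
    have h : f (z + p • v) y = 0 := by rw [f_add_left hf, f_smul_left hf, zy, vy]; ring
    rw [conj_th hf (rt_mem_iso hf _ _), th_inv hf zy, e1, rt_fix hf yv] at h1
    convert h1 using 1
    refine gl_ext fun x => ?_
    simp only [mul_mulVec, rt_mulVec hf, th_mulVec hf zy, th_mulVec hf h, th_mulVec hf vy,
      f_add_left hf, f_add_right hf, f_smul_left hf, f_smul_right hf, f_self hf, zy, yz, vy, yv,
      zv, f_skew hf v z]
    module
  have hk4 : th hf v y (2 * (c * p)) ∈ M := by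
    have h1 := M.mul_mem hk3 (M.inv_mem (conj_mem (R.neg2_mem hS hu hv) hk3))
    rw [show ∀ g x y : GL ι F, g * (x * y) * g⁻¹ = g * x * g⁻¹ * (g * y * g⁻¹) from
        fun g x y => by group, conj_th hf (neg2_mem_iso hf _ _), conj_rt hf (neg2_mem_iso hf _ _),
      neg2_right hf huv, neg2_fix hf yu yv, th_neg_left hf vy, _root_.mul_inv_rev, th_inv hf vy,
      rt_inv hf] at h1
    convert h1 using 1
    refine gl_ext fun x => ?_
    simp only [mul_mulVec, rt_mulVec hf, th_mulVec hf vy, f_add_left hf, f_smul_left hf, f_self hf,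
      vy, yv]
    module
  refine inA_of_one R hS hy hy0 ?_
  have h1 := M.mul_mem (conj_mem (th_mem (hS (-1) (F₀.neg_mem F₀.one_mem)) hu hy) hk4)
    (M.inv_mem hk4)
  have e1 : (th hf u y (-1) : Matrix ι ι F) *ᵥ v = v + y := by
    rw [th_mulVec hf uy, vu, vy]; module
  have e2 : (th hf u y (-1) : Matrix ι ι F) *ᵥ y = y := by
    rw [th_mulVec hf uy, yu, f_self hf]; module
  have h : f (v + y) y = 0 := by rw [f_add_left hf, vy, f_self hf, add_zero]
  rw [conj_th hf (th_mem_iso hf _ _ _), th_inv hf vy, e1, e2] at h1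
  convert h1 using 1
  refine gl_ext fun x => ?_
  simp only [hc, mul_mulVec, rt_mulVec hf, th_mulVec hf vy, th_mulVec hf h, f_add_left hf,
    f_add_right hf, f_smul_left hf, f_self hf, vy, yv]
  module

/-- If no new parameters occur, then the vector is a rational vector up to a scalar. -/
theorem odd_rational (h2 : (2 : F) ≠ 0) (hn : 4 ≤ Fintype.card ι)
    (hA : ∀ a, InA R.symp V₀ M a → a ∈ F₀) {w : ι → F} (hw0 : w ≠ 0) (hw : rt R.symp w 1 ∈ M) :
    ∃ c : F, c ≠ 0 ∧ c ^ 2 ∈ F₀ ∧ c⁻¹ • w ∈ V₀ := by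
  have hf := R.symp
  obtain ⟨v0, hv0, hne⟩ := R.exists_ne hw0
  have hv00 : v0 ≠ 0 := by rintro rfl; exact hne (f_zero_right hf w)
  have pair : ∀ v ∈ V₀, f v0 v = 1 → (f w v0)⁻¹ * f w v ∈ F₀ := by
    intro v hv huv
    obtain ⟨γ, hγ, h1, h3⟩ := odd_params R hS h2 hn hw hv0 hv huv
    have := F₀.div_mem (hA _ h3)
      (F₀.mul_mem (F₀.mul_mem (F₀.add_mem F₀.one_mem F₀.one_mem) (F₀.add_mem F₀.one_mem F₀.one_mem))
        (hA _ h1))
    convert this using 1
    rw [one_add_one_eq_two]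
    field_simp
    ring
  have all : ∀ v ∈ V₀, (f w v0)⁻¹ * f w v ∈ F₀ := by
    obtain ⟨v1, hv1, h01⟩ := R.exists_partner hv0 hv00
    intro v hv
    by_cases hh : f v0 v = 0
    · have h1 := pair _ (V₀.add_mem hv hv1) (by rw [f_add_right hf, hh, h01, zero_add])
      have h2 := F₀.sub_mem h1 (pair v1 hv1 h01)
      rwa [f_add_right hf, mul_add, add_sub_cancel_right] at h2
    · have hs := R.rat v0 hv0 v hv
      have h1 := pair _ (R.smul_mem _ (F₀.inv_mem hs) v hv)
        (by rw [f_smul_right hf, inv_mul_cancel₀ hh])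
      have h2 := F₀.mul_mem hs h1
      rw [f_smul_right hf] at h2
      convert h2 using 1
      field_simp
  set c := f w v0
  have hmem : c⁻¹ • w ∈ V₀ := R.dual _ fun v hv => by rw [f_smul_left hf]; exact all v hv
  refine ⟨c, hne, hA _ (inA_of_one R hS hmem ?_ ?_), hmem⟩
  · simp [hw0, hne]
  · rw [rt_smul_vec hf, show c ^ 2 * c⁻¹ ^ 2 = 1 by field_simp]; exact hw

/-- products, odd characteristic -/
theorem inA_mul_odd (h2 : (2 : F) ≠ 0) (hn : 4 ≤ Fintype.card ι) {a b : F}
    (ha : InA R.symp V₀ M a) (hb : InA R.symp V₀ M b) : InA R.symp V₀ M (a * b) := by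
  have hf := R.symp
  have hbot : V₀ ≠ ⊥ := by
    intro hb0
    have := R.span_eq
    rw [hb0, AddSubgroup.coe_bot, Submodule.span_zero_singleton] at this
    haveI hne : Nonempty ι := Fintype.card_pos_iff.1 (by omega)
    exact bot_ne_top this
  obtain ⟨x, hx, hx0⟩ := V₀.bot_or_exists_ne_zero.resolve_left hbot
  obtain ⟨y, hy, hxy⟩ := R.exists_partner hx hx0
  obtain ⟨u, hu, u', -, hU, ux, uy, -, -⟩ := H39.RatTwo.exists_plane R hn hx hy hxy
  have hu0 : u ≠ 0 := by rintro rfl; simp [f_zero_left hf] at hU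
  have xu : f x u = 0 := f_symm_zero hf ux
  have yu : f y u = 0 := f_symm_zero hf uy
  have yx : f y x = -1 := by rw [f_skew hf, hxy]
  have move : ∀ e : F, (th hf u x e : Matrix ι ι F) *ᵥ y = y + (-e) • u ∧
      (th hf u x e : Matrix ι ι F) *ᵥ u = u := fun e => by
    constructor
    · rw [th_mulVec hf ux, yu, yx]; module
    · rw [th_mulVec hf ux, f_self hf, ux]; module
  have hZ : rt hf u (a ^ 2 * b) * th hf u y (-(a * b)) ∈ M := by
    have h1 := M.mul_mem (conj_mem (th_mem ha hu hx) (hb y hy)) (M.inv_mem (hb y hy))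
    rw [conj_rt hf (th_mem_iso hf _ _ _), (move a).1, rt_inv hf] at h1
    convert h1 using 1
    refine gl_ext fun t => ?_
    simp only [mul_mulVec, rt_mulVec hf, th_mulVec hf uy, f_add_left hf, f_add_right hf,
      f_smul_left hf, f_smul_right hf, f_self hf, uy, yu]
    module
  have h1 := M.mul_mem (conj_mem (th_mem (hS (-1) (F₀.neg_mem F₀.one_mem)) hu hx) hZ)
    (M.inv_mem hZ)
  have h : f u (y + (-(-1 : F)) • u) = 0 := by
    rw [f_add_right hf, f_smul_right hf, uy, f_self hf]; ring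
  rw [show ∀ g x y : GL ι F, g * (x * y) * g⁻¹ = g * x * g⁻¹ * (g * y * g⁻¹) from
      fun g x y => by group, conj_th hf (th_mem_iso hf _ _ _), conj_rt hf (th_mem_iso hf _ _ _),
    (move (-1)).1, (move (-1)).2, _root_.mul_inv_rev, th_inv hf uy, rt_inv hf] at h1
  have hd : rt hf u (-(2 * (a * b))) ∈ M := by
    convert h1 using 1
    refine gl_ext fun t => ?_
    simp only [mul_mulVec, rt_mulVec hf, th_mulVec hf uy, th_mulVec hf h, f_add_left hf,
      f_add_right hf, f_smul_left hf, f_smul_right hf, f_self hf, uy, yu]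
    module
  have hd' : InA hf V₀ M (-(2 * (a * b))) := inA_of_one R hS hu hu0 hd
  have e : a * b = -(-(2 * (a * b))) * (((1 : F) + 1 / 2) / 2) ^ 2 +
      -(-(-(2 * (a * b))) * (((1 : F) / 2 - 1) / 2) ^ 2) := by field_simp; ring
  have two : (2 : F) ∈ F₀ := by rw [← one_add_one_eq_two]; exact F₀.add_mem F₀.one_mem F₀.one_mem
  rw [e]
  exact R.inA_add (R.inA_sq_mul (R.inA_neg hd')
      (F₀.div_mem (F₀.add_mem F₀.one_mem (F₀.div_mem F₀.one_mem two)) two))
    (R.inA_neg (R.inA_sq_mul (R.inA_neg hd')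
      (F₀.div_mem (F₀.sub_mem (F₀.div_mem F₀.one_mem two) F₀.one_mem) two)))

/-- One new parameter gives all of them. -/
theorem inA_all [Fintype F] (h2 : (2 : F) ≠ 0) (hn : 4 ≤ Fintype.card ι) {r : ℕ} (hr : r.Prime)
    (hcard : Fintype.card F = Nat.card F₀ ^ r) {a : F} (ha : InA R.symp V₀ M a) (haF : a ∉ F₀)
    (b : F) : InA R.symp V₀ M b := by
  let C : Subring F :=
    { carrier := {c | InA R.symp V₀ M c}
      mul_mem' := fun hc hd => inA_mul_odd R hS h2 hn hc hd
      one_mem' := hS 1 F₀.one_mem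
      add_mem' := fun hc hd => R.inA_add hc hd
      zero_mem' := hS 0 F₀.zero_mem
      neg_mem' := fun hc => R.inA_neg hc }
  rcases H39.RatTwo.subring_dichotomy F₀ hr hcard C hS with h | h
  · exact absurd (h a ha) haF
  · exact h b

end

open Cfsg.Agent.S5650

theorem subfield_main {ι : Type} [Fintype ι] [DecidableEq ι] {F : Type*} [Field F] [Fintype F]
    (h2 : (2 : F) ≠ 0) (hn : 4 ≤ Fintype.card ι) (F₀ : Subfield F) (r : ℕ) (hr : r.Prime)
    (hcard : Fintype.card F = Nat.card F₀ ^ r) (P : GL ι F) {f : (ι → F) → (ι → F) → F}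
    (hf : Geo.IsSymplecticForm f)
    (hP : ∀ u v : ι → F, (∀ i, u i ∈ F₀) → (∀ i, v i ∈ F₀) →
      f ((P : Matrix ι ι F) *ᵥ u) ((P : Matrix ι ι F) *ᵥ v) ∈ F₀) :
    Geo.IsMaximalIn (isoGrp f) (Geo.subfieldSubgroup F₀ P ⊓ isoGrp f) := by
  set V₀ := V0 F₀ P
  have R : RatForm f F₀ V₀ := ratForm_V0 F₀ P hf hP
  haveI : Nonempty ι := Fintype.card_pos_iff.1 (by omega)
  have hlt : Geo.subfieldSubgroup F₀ P ⊓ isoGrp f < isoGrp f := by
    refine lt_of_le_of_ne inf_le_right fun hEq => ?_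
    have hall : ∀ a : F, a ∈ F₀ := by
      intro a
      obtain ⟨i⟩ := ‹Nonempty ι›
      set e : ι → F := (P : Matrix ι ι F) *ᵥ Pi.single i 1 with he
      have he0 : e ≠ 0 := by
        intro h0
        have := inv_mulVec_mulVec P (Pi.single i (1 : F))
        rw [← he, h0, mulVec_zero] at this
        simpa using congrFun this i
      have hev : e ∈ V₀ := col_mem F₀ P i
      obtain ⟨e', he', hee⟩ := R.exists_partner hev he0
      have : rt hf e a ∈ Geo.subfieldSubgroup F₀ P :=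
        ((hEq.symm ▸ rt_mem_iso hf e a : rt hf e a ∈ Geo.subfieldSubgroup F₀ P ⊓ isoGrp f)).1
      obtain ⟨c, hc, hcv⟩ := scalar_of_mem F₀ P this
      have h1 := hcv e hev
      rw [rt_fix hf (f_self hf e)] at h1
      have hcF : c⁻¹ ∈ F₀ := by
        have := h1 i
        rwa [mulVec_smul, he, inv_mulVec_mulVec, Pi.smul_apply, Pi.single_eq_same, smul_eq_mul,
          mul_one] at this
      have h2 := mem_V0_smul F₀ P (F₀.inv_mem hcF) (hcv e' he')
      rw [inv_inv, smul_inv_smul₀ hc, rt_mulVec hf] at h2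
      have h3 := V₀.sub_mem h2 he'
      rw [add_sub_cancel_left, f_skew hf, hee] at h3
      have := h3 i
      rw [mulVec_smul, he, inv_mulVec_mulVec, Pi.smul_apply, Pi.single_eq_same, smul_eq_mul,
        mul_one, mul_neg, mul_one] at this
      simpa using F₀.neg_mem this
    have h1 : Nat.card F₀ = Fintype.card F := by
      rw [← Nat.card_eq_fintype_card]
      exact Nat.card_congr (Equiv.subtypeUnivEquiv hall)
    rw [h1] at hcard
    have h2 := Nat.pow_lt_pow_right (Fintype.one_lt_card (α := F)) hr.one_lt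
    rw [pow_one, ← hcard] at h2
    exact lt_irrefl _ h2
  refine ⟨hlt, fun M hSM hMK => ?_⟩
  by_contra hne
  push Not at hne
  have hS : ∀ c ∈ F₀, InA R.symp V₀ M c := fun c hc v hv =>
    hSM ⟨mem_subfieldSubgroup_of F₀ P one_ne_zero fun x hx => by
      rw [inv_one, one_smul, rt_mulVec hf]
      exact V₀.add_mem hx (mem_V0_smul F₀ P (F₀.mul_mem hc (R.rat x hx v hv)) hv),
      rt_mem_iso hf v c⟩
  by_cases hA : ∀ a, InA R.symp V₀ M a → a ∈ F₀
  · refine hne.1 (le_antisymm (fun g hg => ⟨?_, hMK hg⟩) hSM)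
    have hgi := hMK hg
    have each : ∀ v ∈ V₀, v ≠ 0 →
        ∃ c : F, c ≠ 0 ∧ c ^ 2 ∈ F₀ ∧ c⁻¹ • ((g : Matrix ι ι F) *ᵥ v) ∈ V₀ := by
      intro v hv hv0
      have hw : rt R.symp ((g : Matrix ι ι F) *ᵥ v) 1 ∈ M := by
        rw [← conj_rt R.symp hgi]; exact conj_mem hg (hS 1 F₀.one_mem v hv)
      refine odd_rational R hS h2 hn hA (fun h0 => hv0 ?_) hw
      rw [← inv_mulVec_mulVec g v, h0, mulVec_zero]
    obtain ⟨j⟩ := ‹Nonempty ι›
    set v0 : ι → F := (P : Matrix ι ι F) *ᵥ Pi.single j 1 with hv0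
    have hv0n : v0 ≠ 0 := by
      intro h0
      have := inv_mulVec_mulVec P (Pi.single j (1 : F))
      rw [← hv0, h0, mulVec_zero] at this
      simpa using congrFun this j
    have hv0m : v0 ∈ V₀ := col_mem F₀ P j
    obtain ⟨c0, hc0, hc0s, hc0v⟩ := each v0 hv0m hv0n
    refine mem_subfieldSubgroup_of F₀ P hc0 ?_
    have near : ∀ v ∈ V₀, f v0 v ≠ 0 → c0⁻¹ • ((g : Matrix ι ι F) *ᵥ v) ∈ V₀ := by
      intro v hv hh
      obtain ⟨c, hc, hcs, hcv⟩ := each v hv (by rintro rfl; exact hh (f_zero_right hf v0))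
      have h1 := R.rat _ hc0v _ hcv
      rw [f_smul_left hf, f_smul_right hf, mem_isoGrp.1 hgi] at h1
      have h2 : c / c0 ∈ F₀ := by
        have := F₀.div_mem (F₀.div_mem (R.rat v0 hv0m v hv) h1) hc0s
        convert this using 1
        field_simp
      have := mem_V0_smul F₀ P h2 hcv
      rwa [smul_smul, show c / c0 * c⁻¹ = c0⁻¹ by field_simp] at this
    intro v hv
    by_cases hh : f v0 v = 0
    · obtain ⟨v1, hv1, h01⟩ := R.exists_partner hv0m hv0n
      have h1 := near _ (V₀.add_mem hv hv1)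
        (by rw [f_add_right hf, hh, h01, zero_add]; exact one_ne_zero)
      have h2 := V₀.sub_mem h1 (near v1 hv1 (by rw [h01]; exact one_ne_zero))
      rwa [← smul_sub, ← mulVec_sub, add_sub_cancel_right] at h2
    · exact near v hv hh
  · push Not at hA
    obtain ⟨a, ha, haF⟩ := hA
    exact hne.2 (le_antisymm hMK (R.iso_le_of_all fun b => inA_all R hS h2 hn hr hcard ha haF b))

theorem subfield {F : Type*} [Field F] [Fintype F] (h2 : (2 : F) ≠ 0) (m : ℕ) (hm : 2 ≤ m) (F₀ : Subfield F) (r : ℕ) (hr : r.Prime) (hcard : Fintype.card F = Nat.card F₀ ^ r) (P : Matrix.GeneralLinearGroup (Fin m ⊕ Fin m) F) (ζ : F) (hζ : ζ ≠ 0) (hP : Cfsg.Geo.IsFormRationalStructure (Cfsg.sympForm m F) F₀ ζ P) : Cfsg.Geo.IsMaximalIn (Cfsg.spGL m F) (Cfsg.Geo.subfieldSubgroup F₀ P ⊓ Cfsg.spGL m F) := by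
  have hiso : Cfsg.spGL m F = isoGrp fun u v => ζ * Cfsg.sympForm m F u v := by
    ext g
    rw [spGL_eq_isoGrp, mem_isoGrp, mem_isoGrp]
    exact forall₂_congr fun u v => (mul_right_inj' hζ).symm
  rw [hiso]
  exact subfield_main h2 (by simp; omega) F₀ r hr hcard P (smul_symp (isSymplecticForm_sympForm m) hζ) hP

end Cfsg.Agent.H57.SympFour
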