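import Cfsg.Agent.H39.SympGeoSmall
import Cfsg.Agent.H57.SympFour.SubfieldOdd
import Cfsg.Agent.H57.SympFour.SkewMain
import Cfsg.Agent.H57.SympFour.PolarMain

/-!
Maximality of the first six geometric types of the symplectic group of dimension four, odd order.
-/

set_option autoImplicit false
open Cfsg

namespace Cfsg.Agent.H57.SympFour

open scoped MatrixGroups Matrix
open Matrix Cfsg.Agent.H95 Cfsg.Agent.Symplectic

theorem six_clauses {F : Type*} [Field F] [Fintype F] (hodd : Odd (Fintype.card F)) :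
    (∀ W : Submodule F (Fin 2 ⊕ Fin 2 → F), W ≠ ⊥ → Cfsg.Geo.IsTotallySingularFor (Cfsg.sympForm 2 F) W → Cfsg.Geo.IsMaximalIn (Cfsg.spGL 2 F) (Cfsg.Geo.subspaceStabilizer W ⊓ Cfsg.spGL 2 F)) ∧
    (∀ D : Fin 2 → Submodule F (Fin 2 ⊕ Fin 2 → F), Cfsg.Geo.IsNondegenerateMDecomposition (Cfsg.sympForm 2 F) 2 D → Cfsg.Geo.IsMaximalIn (Cfsg.spGL 2 F) (Cfsg.Geo.decompositionStabilizer D ⊓ Cfsg.spGL 2 F)) ∧
    (5 ≤ Fintype.card F → ∀ D : Fin 2 → Submodule F (Fin 2 ⊕ Fin 2 → F), Cfsg.Geo.IsMDecomposition 2 D → (∀ i, Cfsg.Geo.IsTotallySingularFor (Cfsg.sympForm 2 F) (D i)) → Cfsg.Geo.IsMaximalIn (Cfsg.spGL 2 F) (Cfsg.Geo.decompositionStabilizer D ⊓ Cfsg.spGL 2 F)) ∧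
    (∀ K : Subalgebra F (Matrix (Fin 2 ⊕ Fin 2) (Fin 2 ⊕ Fin 2) F), Cfsg.Geo.IsFieldSubalgebra 2 K → Cfsg.Geo.IsSelfAdjointFor (Cfsg.sympForm 2 F) K → (∀ k ∈ K, ∀ v : (Fin 2 ⊕ Fin 2 → F), (Cfsg.sympForm 2 F) (Matrix.mulVec k v) v = 0) → Cfsg.Geo.IsMaximalIn (Cfsg.spGL 2 F) (Cfsg.Geo.subalgebraNormalizer K ⊓ Cfsg.spGL 2 F)) ∧
    (5 ≤ Fintype.card F → ∀ K : Subalgebra F (Matrix (Fin 2 ⊕ Fin 2) (Fin 2 ⊕ Fin 2) F), Cfsg.Geo.IsFieldSubalgebra 2 K → Cfsg.Geo.IsAdjointClosedFor (Cfsg.sympForm 2 F) K → ¬ Cfsg.Geo.IsSelfAdjointFor (Cfsg.sympForm 2 F) K → Cfsg.Geo.IsMaximalIn (Cfsg.spGL 2 F) (Cfsg.Geo.subalgebraNormalizer K ⊓ Cfsg.spGL 2 F)) ∧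
    (∀ (F₀ : Subfield F) (r : ℕ) (P : Matrix.GeneralLinearGroup (Fin 2 ⊕ Fin 2) F) (ζ : F), r.Prime → Fintype.card F = Nat.card F₀ ^ r → ζ ≠ 0 → Cfsg.Geo.IsFormRationalStructure (Cfsg.sympForm 2 F) F₀ ζ P → Cfsg.Geo.IsMaximalIn (Cfsg.spGL 2 F) (Cfsg.Geo.subfieldSubgroup F₀ P ⊓ Cfsg.spGL 2 F)) := by
  have h2 : (2 : F) ≠ 0 := Ring.two_ne_zero ((FiniteField.even_card_iff_char_two (F := F)).not.2
    (Nat.mod_two_ne_zero.2 (Nat.odd_iff.1 hodd)))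
  have hq3 : ∃ c : F, c ≠ 0 ∧ c ≠ 1 := ⟨-1, by simp, fun e => h2 (by linear_combination -e)⟩
  refine ⟨fun W h0 h => H39.SympSmall.singular 2 W h0 h, fun D hD => ?_, fun hq D hD hts => ?_,
    fun K hK hsa halt => H39.SympSmall.extension 2 (by norm_num) hq3 2 Nat.prime_two K hK hsa halt,
    fun hq K hK hac hnsa => ?_,
    fun F₀ r P ζ hr hcard hζ hP => subfield h2 2 le_rfl F₀ r hr hcard P ζ hζ hP⟩
  · refine H39.SympSmall.decomposition 2 2 D hD fun h => ?_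
    rw [h.2] at hodd
    exact absurd hodd (by decide)
  · rw [spGL_eq_isoGrp]
    refine polar_main h2 ?_ (by simp) (isSymplecticForm_sympForm 2) D hD hts
    obtain ⟨t, t1, t2⟩ := exists_avoid (F := F) (by rw [Nat.card_eq_fintype_card]; exact hq)
      (a := 0) (b := 1) (c := 0) (a' := 1) (b' := 0) (c' := -1) (.inr (.inl one_ne_zero))
      (.inl one_ne_zero)
    exact ⟨t, by simpa using t1, fun e => t2 (by linear_combination e)⟩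
  · rw [spGL_eq_isoGrp]
    exact skew_main h2 (by simp) (by rw [Nat.card_eq_fintype_card]; exact hq) K hK
      (isSymplecticForm_sympForm 2) hac hnsa

end Cfsg.Agent.H57.SympFour
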