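import Cfsg.Agent.Symplectic.Polarization

/-!
The stabiliser of a pair of complementary totally isotropic planes is maximal in the symplectic
group of dimension four over at least five elements.
-/

set_option autoImplicit false
open Cfsg

namespace Cfsg.Agent.H57.SympFour

open scoped MatrixGroups Matrix
open Matrix Cfsg.Agent.H95 Cfsg.Agent.Symplectic

variable {ι : Type} [Fintype ι] [DecidableEq ι] {F : Type*} [Field F]
  {f : (ι → F) → (ι → F) → F} (hf : Geo.IsSymplecticForm f)
  {W₁ W₂ : Submodule F (ι → F)} {M : Subgroup (GL ι F)}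

/-- `W₁`, `W₂` form a polarization. -/
structure Polar (f : (ι → F) → (ι → F) → F) (W₁ W₂ : Submodule F (ι → F)) : Prop where
  ti₁ : ∀ u ∈ W₁, ∀ v ∈ W₁, f u v = 0
  ti₂ : ∀ u ∈ W₂, ∀ v ∈ W₂, f u v = 0
  compl : IsCompl W₁ W₂
  dim₁ : Module.finrank F W₁ = 2
  dim₂ : Module.finrank F W₂ = 2

theorem Polar.exists_split (h : Polar f W₁ W₂) (x : ι → F) :
    ∃ a ∈ W₁, ∃ b ∈ W₂, a + b = x :=
  Submodule.mem_sup.1 (h.compl.sup_eq_top ▸ Submodule.mem_top)

include hf

/-- pairing against `W₁` separates independent vectors of `W₂` -/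
theorem Polar.exists_dual (h : Polar f W₁ W₂) {u v : ι → F} (hu : u ∈ W₂) (hv : v ∈ W₂)
    (hind : ∀ t : F, v ≠ t • u) : ∃ p ∈ W₁, f u p = 0 ∧ f v p = 1 := by
  obtain ⟨x, h1, h2⟩ := exists_perp_nonorth hf hind
  obtain ⟨p, hp, q, hq, rfl⟩ := h.exists_split x
  rw [f_add_right hf, h.ti₂ u hu q hq, add_zero] at h1
  rw [f_add_right hf, h.ti₂ v hv q hq, add_zero] at h2
  exact ⟨p, hp, h1, h2⟩

/-- a non-zero vector of `W₂` orthogonal to one vector -/
theorem Polar.exists_perp (h : Polar f W₁ W₂) (a : ι → F) : ∃ r ∈ W₂, r ≠ 0 ∧ f a r = 0 := by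
  let L : W₂ →ₗ[F] F :=
    { toFun := fun r => f a r
      map_add' := fun x y => f_add_right hf _ _ _
      map_smul' := fun t x => f_smul_right hf _ _ _ }
  have hne : L.ker ≠ ⊥ := by
    intro hb
    have := LinearMap.finrank_le_finrank_of_injective (LinearMap.ker_eq_bot.1 hb)
    rw [Module.finrank_self, h.dim₂] at this
    omega
  obtain ⟨r, hr, hr0⟩ := L.ker.ne_bot_iff.1 hne
  exact ⟨r, r.2, by simpa using hr0, LinearMap.mem_ker.1 hr⟩

/-- independent vectors of `W₂` detect `W₁` -/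
theorem Polar.eq_zero_of_perp (h : Polar f W₁ W₂) {x u v : ι → F} (hx : x ∈ W₁) (hu : u ∈ W₂)
    (hv : v ∈ W₂) (hu0 : u ≠ 0) (hind : ∀ t : F, v ≠ t • u) (hxu : f x u = 0) (hxv : f x v = 0) :
    x = 0 := by
  by_contra hx0
  obtain ⟨y, hy⟩ := exists_f_eq_one hf hx0
  obtain ⟨p, hp, q, hq, rfl⟩ := h.exists_split y
  rw [f_add_right hf, h.ti₁ x hx p hp, zero_add] at hy
  have hle : Submodule.span F ({u, v} : Set (ι → F)) ≤ W₂ :=
    Submodule.span_le.2 (Set.insert_subset hu (Set.singleton_subset_iff.2 hv))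
  have hli : LinearIndependent F ![u, v] := (LinearIndependent.pair_iff' hu0).2 fun t e => hind t e.symm
  have hrank : Module.finrank F (Submodule.span F ({u, v} : Set (ι → F))) = 2 := by
    rw [← Matrix.range_cons_cons_empty u v ![], finrank_span_eq_card hli, Fintype.card_fin]
  have hmem : q ∈ Submodule.span F ({u, v} : Set (ι → F)) :=
    (Submodule.eq_of_le_of_finrank_eq hle (hrank.trans h.dim₂.symm)) ▸ hq
  obtain ⟨α, β, rfl⟩ := Submodule.mem_span_pair.1 hmem
  rw [f_add_right hf, f_smul_right hf, f_smul_right hf, hxu, hxv] at hy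
  simp at hy

omit hf in
theorem Polar.symm (h : Polar f W₁ W₂) : Polar f W₂ W₁ :=
  ⟨h.ti₂, h.ti₁, h.compl.symm, h.dim₂, h.dim₁⟩

/-- the element scaling a hyperbolic pair -/
def wel (k k' : ι → F) (b : F) : GL ι F := rt hf k b⁻¹ * rt hf k' b * rt hf k b⁻¹

/-- the element scaling `k` by `t` and `k'` by `1 / t` -/
def dil (k k' : ι → F) (t : F) : GL ι F := wel hf k k' 1 * wel hf k k' (-t)

theorem dil_mem_iso (k k' : ι → F) (t : F) : dil hf k k' t ∈ isoGrp f := by
  simp only [dil, wel]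
  repeat' apply Subgroup.mul_mem
  all_goals exact rt_mem_iso hf _ _

theorem dil_apply {k k' : ι → F} (hk : f k k' = 1) {t : F} (ht : t ≠ 0) (x : ι → F) :
    (dil hf k k' t : Matrix ι ι F) *ᵥ x =
      x + ((t - 1) * f x k') • k + ((t⁻¹ - 1) * f k x) • k' := by
  simp only [dil, wel, mul_mulVec, rt_mulVec hf, f_add_left hf, f_smul_left hf, f_self hf,
    f_skew hf k' k, f_skew hf k x, hk]
  match_scalars <;> field_simp <;> ring

/-- `M` contains the scalings of all pairs. -/
def Dils (W₁ W₂ : Submodule F (ι → F)) (M : Subgroup (GL ι F)) : Prop :=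
  ∀ k ∈ W₁, ∀ k' ∈ W₂, f k k' = 1 → ∀ t : F, t ≠ 0 → dil hf k k' t ∈ M

/-- `M` contains all short root elements between the two subspaces. -/
def Short (W₁ W₂ : Submodule F (ι → F)) (M : Subgroup (GL ι F)) : Prop :=
  ∀ u ∈ W₁, ∀ v ∈ W₂, f u v = 0 → ∀ c : F, th hf u v c ∈ M

/-- a short root element inside `W₂` gives a long one -/
theorem long_of_short_same (h2 : (2 : F) ≠ 0) (h : Polar f W₁ W₂) (hS : Short hf W₁ W₂ M)
    {r y : ι → F} (hr : r ∈ W₂) (hy : y ∈ W₂) (γ : F) (hind : ∀ t : F, r ≠ t • y)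
    (hm : th hf r y 1 * rt hf r γ ∈ M) : ∃ l : F, l ≠ 0 ∧ rt hf y l ∈ M := by
  have ry : f r y = 0 := h.ti₂ r hr y hy
  have yr : f y r = 0 := f_symm_zero hf ry
  obtain ⟨p, hp, hyp, hrp⟩ := h.exists_dual hf hy hr hind
  have py : f p y = 0 := f_symm_zero hf hyp
  have hh := hS p hp y hy py 1
  have e1 : (th hf p y 1 : Matrix ι ι F) *ᵥ r = r + y := by
    rw [th_mulVec hf py, hrp, ry]; module
  have e2 : (th hf p y 1 : Matrix ι ι F) *ᵥ y = y := by
    rw [th_mulVec hf py, hyp, f_self hf]; module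
  have h' : f (r + y) y = 0 := by rw [f_add_left hf, ry, f_self hf, add_zero]
  have split : ∀ g x y : GL ι F, g * (x * y) * g⁻¹ = g * x * g⁻¹ * (g * y * g⁻¹) :=
    fun g x y => by group
  have hX : th hf r y γ * rt hf y (2 + γ) ∈ M := by
    have h1 := M.mul_mem (conj_mem hh hm) (M.inv_mem hm)
    rw [split, conj_th hf (th_mem_iso hf _ _ _), conj_rt hf (th_mem_iso hf _ _ _), e1, e2,
      _root_.mul_inv_rev, th_inv hf ry, rt_inv hf] at h1
    convert h1 using 1
    refine gl_ext fun x => ?_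
    simp only [mul_mulVec, rt_mulVec hf, th_mulVec hf ry, th_mulVec hf h', f_add_left hf,
      f_add_right hf, f_smul_left hf, f_self hf, ry, yr]
    module
  rcases eq_or_ne γ 0 with rfl | hγ
  · refine ⟨2, h2, ?_⟩
    rwa [th_zero hf ry, one_mul, add_zero] at hX
  refine ⟨2 * γ, mul_ne_zero h2 hγ, ?_⟩
  have h1 := M.mul_mem (conj_mem hh hX) (M.inv_mem hX)
  rw [split, conj_th hf (th_mem_iso hf _ _ _), conj_rt hf (th_mem_iso hf _ _ _), e1, e2,
    _root_.mul_inv_rev, th_inv hf ry, rt_inv hf] at h1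
  convert h1 using 1
  refine gl_ext fun x => ?_
  simp only [mul_mulVec, rt_mulVec hf, th_mulVec hf ry, th_mulVec hf h', f_add_left hf,
    f_add_right hf, f_smul_left hf, f_self hf, ry, yr]
  module

theorem Short.symm (hS : Short hf W₁ W₂ M) : Short hf W₂ W₁ M := fun u hu v hv huv c => by
  rw [th_comm hf u v huv]; exact hS v hv u hu (f_symm_zero hf huv) c

/-- a short root element with one pure vector gives a long one -/
theorem long_of_pure (h2 : (2 : F) ≠ 0) (h : Polar f W₁ W₂) (hS : Short hf W₁ W₂ M)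
    {a b d : ι → F} (ha : a ∈ W₁) (hb : b ∈ W₂) (hb0 : b ≠ 0) (hd : d ∈ W₂) (hd0 : d ≠ 0)
    (wd : f (a + b) d = 0) (hm : th hf (a + b) d 1 ∈ M) :
    ∃ y ∈ W₂, y ≠ 0 ∧ ∃ l : F, l ≠ 0 ∧ rt hf y l ∈ M := by
  have bd : f b d = 0 := h.ti₂ b hb d hd
  have db : f d b = 0 := h.ti₂ d hd b hb
  have ad : f a d = 0 := by rwa [f_add_left hf, bd, add_zero] at wd
  have hX : th hf d b 1 * rt hf d (-f a b) ∈ M := by
    have := M.mul_mem hm (M.inv_mem (hS a ha d hd ad 1))
    rw [th_inv hf ad] at this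
    convert this using 1
    refine gl_ext fun x => ?_
    simp only [mul_mulVec, rt_mulVec hf, th_mulVec hf wd, th_mulVec hf db, th_mulVec hf ad,
      f_add_left hf, f_add_right hf, f_smul_left hf, f_self hf, ad, f_symm_zero hf ad, bd, db]
    module
  by_cases hind : ∀ t : F, d ≠ t • b
  · exact ⟨b, hb, hb0, long_of_short_same hf h2 h hS hd hb _ hind hX⟩
  push Not at hind
  obtain ⟨t, rfl⟩ := hind
  have ht : t ≠ 0 := by rintro rfl; exact hd0 (zero_smul _ _)
  have ab : f a b = 0 := by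
    rw [f_smul_right hf] at ad
    exact (mul_eq_zero.1 ad).resolve_left ht
  refine ⟨b, hb, hb0, 2 * t, mul_ne_zero h2 ht, ?_⟩
  convert hX using 1
  refine gl_ext fun x => ?_
  simp only [mul_mulVec, rt_mulVec hf, th_mulVec hf db, f_add_left hf, f_smul_left hf,
    f_smul_right hf, f_self hf, ab]
  module

/-- the commutator of two short root elements with a common vector -/
theorem comm_th {w z z' : ι → F} (hz : f w z = 0) (hz' : f w z' = 0) (hm : th hf w z 1 ∈ M)
    (hm' : th hf w z' 1 ∈ M) : rt hf w (2 * f z' z) ∈ M := by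
  have := M.mul_mem (M.mul_mem hm hm') (M.inv_mem (M.mul_mem hm' hm))
  convert this using 1
  rw [_root_.mul_inv_rev, th_inv hf hz, th_inv hf hz']
  refine gl_ext fun x => ?_
  simp only [mul_mulVec, rt_mulVec hf, th_mulVec hf hz, th_mulVec hf hz', f_add_left hf,
    f_smul_left hf, f_self hf, hz, hz', f_symm_zero hf hz, f_symm_zero hf hz', f_skew hf z z']
  module

/-- the quotient of two short root elements with a common vector -/
theorem quot_th {w z z' : ι → F} (hz : f w z = 0) (hz' : f w z' = 0) (hzz : f z' z = 0)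
    (hm : th hf w z 1 ∈ M) (hm' : th hf w z' 1 ∈ M) : th hf w (z' - z) 1 ∈ M := by
  have := M.mul_mem hm' (M.inv_mem hm)
  rw [th_inv hf hz] at this
  convert this using 1
  refine gl_ext fun x => ?_
  have h' : f w (z' - z) = 0 := by rw [f_sub_right hf, hz', hz, sub_zero]
  simp only [mul_mulVec, th_mulVec hf hz, th_mulVec hf hz', th_mulVec hf h', f_add_left hf,
    f_sub_right hf, f_smul_left hf, f_self hf, hz, hz', f_symm_zero hf hz, f_symm_zero hf hz',
    hzz, f_symm_zero hf hzz]
  module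

/-- a scaling fixing one vector and moving an orthogonal one -/
theorem exists_scale (h : Polar f W₁ W₂) (hD : Dils hf W₁ W₂ M) {a b : ι → F} (ha : a ∈ W₁)
    (hb : b ∈ W₂) (hb0 : b ≠ 0) (ab : f a b = 0) {t : F} (ht : t ≠ 0) :
    ∃ g ∈ M, g ∈ isoGrp f ∧ (g : Matrix ι ι F) *ᵥ a = a ∧ (g : Matrix ι ι F) *ᵥ b = t • b := by
  obtain ⟨y, hy⟩ := exists_f_eq_one hf hb0
  obtain ⟨p, hp, q, hq, rfl⟩ := h.exists_split y
  rw [f_add_right hf, h.ti₂ b hb q hq, add_zero] at hy
  have hk : f p ((-1 : F) • b) = 1 := by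
    rw [f_smul_right hf, f_skew hf p b, hy, neg_mul_neg, one_mul]
  refine ⟨dil hf p ((-1 : F) • b) t⁻¹, hD p hp _ (W₂.smul_mem _ hb) hk _ (inv_ne_zero ht),
    dil_mem_iso hf _ _ _, ?_, ?_⟩
  · rw [dil_apply hf hk (inv_ne_zero ht), f_smul_right hf, ab, h.ti₁ p hp a ha]
    simp
  · rw [dil_apply hf hk (inv_ne_zero ht), f_smul_right hf, f_self hf, f_skew hf p b, hy, inv_inv]
    module

/-- a short root element with a mixed vector gives a long one -/
theorem long_of_mixed (h2 : (2 : F) ≠ 0) (hq : ∃ t : F, t ≠ 0 ∧ t ^ 2 ≠ 1) (h : Polar f W₁ W₂)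
    (hS : Short hf W₁ W₂ M) (hD : Dils hf W₁ W₂ M) {w z : ι → F} (hw1 : w ∉ W₁) (hw2 : w ∉ W₂)
    (hz : ∀ t : F, z ≠ t • w) (wz : f w z = 0) (hm : th hf w z 1 ∈ M) :
    (∃ y ∈ W₁, y ≠ 0 ∧ ∃ l : F, l ≠ 0 ∧ rt hf y l ∈ M) ∨
    ∃ y ∈ W₂, y ≠ 0 ∧ ∃ l : F, l ≠ 0 ∧ rt hf y l ∈ M := by
  obtain ⟨s, hs0, hs1⟩ := hq
  have pureLeft : ∀ {a b c : ι → F}, a ∈ W₁ → a ≠ 0 → b ∈ W₂ → c ∈ W₁ → c ≠ 0 →
      f (a + b) c = 0 → th hf (a + b) c 1 ∈ M →
      ∃ y ∈ W₁, y ≠ 0 ∧ ∃ l : F, l ≠ 0 ∧ rt hf y l ∈ M := by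
    intro a b c ha ha0 hb hc hc0 e e'
    rw [add_comm a b] at e e'
    exact long_of_pure hf h2 h.symm (hS.symm hf) hb ha ha0 hc hc0 e e'
  -- both vectors mixed, the first of non-zero value
  have torus : ∀ a b c d : ι → F, a ∈ W₁ → b ∈ W₂ → c ∈ W₁ → d ∈ W₂ → f a b ≠ 0 →
      (∀ t : F, c + d ≠ t • (a + b)) → f (a + b) (c + d) = 0 → th hf (a + b) (c + d) 1 ∈ M →
      (∃ y ∈ W₁, y ≠ 0 ∧ ∃ l : F, l ≠ 0 ∧ rt hf y l ∈ M) ∨
      ∃ y ∈ W₂, y ≠ 0 ∧ ∃ l : F, l ≠ 0 ∧ rt hf y l ∈ M := by
    intro a b c d ha hb hc hd hab hind wz hm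
    have ha0 : a ≠ 0 := by rintro rfl; exact hab (f_zero_left hf b)
    have hb0 : b ≠ 0 := by rintro rfl; exact hab (f_zero_right hf a)
    obtain ⟨k, hk, hk0, bk⟩ := h.symm.exists_perp hf b
    have kb : f k b = 0 := f_symm_zero hf bk
    have kind : ∀ t : F, k ≠ t • a := fun t e => by
      rw [e, f_smul_left hf] at kb
      exact hk0 (by rw [e, (mul_eq_zero.1 kb).resolve_right hab, zero_smul])
    obtain ⟨k', hk', ak', kk'⟩ := h.symm.exists_dual hf ha hk kind
    have k'ind : ∀ t : F, k' ≠ t • b := fun t e => by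
      rw [e, f_smul_right hf, kb, mul_zero] at kk'
      exact zero_ne_one kk'
    have kind' : ∀ t : F, a ≠ t • k := fun t e => hab (by rw [e, f_smul_left hf, kb, mul_zero])
    obtain ⟨c0, c1, hcd⟩ : ∃ c0 c1 : F, c = c0 • a + c1 • k := by
      refine ⟨f c b / f a b, f c k', ?_⟩
      rw [← sub_eq_zero]
      refine h.eq_zero_of_perp hf (W₁.sub_mem hc (W₁.add_mem (W₁.smul_mem _ ha) (W₁.smul_mem _ hk)))
        hb hk' hb0 k'ind ?_ ?_
      · simp only [f_sub_left hf, f_add_left hf, f_smul_left hf, kb]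
        field_simp
        ring
      · simp only [f_sub_left hf, f_add_left hf, f_smul_left hf, ak', kk']; ring
    obtain ⟨d0, d1, hdd⟩ : ∃ d0 d1 : F, d = d0 • b + d1 • k' := by
      refine ⟨f a d / f a b, f k d, ?_⟩
      rw [← sub_eq_zero]
      refine h.symm.eq_zero_of_perp hf
        (W₂.sub_mem hd (W₂.add_mem (W₂.smul_mem _ hb) (W₂.smul_mem _ hk'))) ha hk ha0 kind ?_ ?_
      · refine f_symm_zero hf ?_
        simp only [f_sub_right hf, f_add_right hf, f_smul_right hf, ak']
        field_simp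
        ring
      · refine f_symm_zero hf ?_
        simp only [f_sub_right hf, f_add_right hf, f_smul_right hf, kb, kk']; ring
    have ak : f a k = 0 := h.ti₁ a ha k hk
    have ka : f k a = 0 := h.ti₁ k hk a ha
    have bk' : f b k' = 0 := h.ti₂ b hb k' hk'
    have wk : f (a + b) k = 0 := by rw [f_add_left hf, ak, bk, add_zero]
    have wk' : f (a + b) k' = 0 := by rw [f_add_left hf, ak', bk', add_zero]
    set g := dil hf k k' s with hg
    have hgM : g ∈ M := hD k hk k' hk' kk' s hs0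
    have gw : (g : Matrix ι ι F) *ᵥ (a + b) = a + b := by
      rw [hg, dil_apply hf kk' hs0, f_add_left hf, ak', bk', f_add_right hf, ka, kb]
      simp
    set z' := (c + d) + ((s - 1) * c1) • k + ((s⁻¹ - 1) * d1) • k' with hz'
    have gz : (g : Matrix ι ι F) *ᵥ (c + d) = z' := by
      rw [hg, dil_apply hf kk' hs0, hz', hcd, hdd]
      simp only [f_add_left hf, f_add_right hf, f_smul_left hf, f_smul_right hf, ak', bk', ka, kb,
        kk', f_self hf]
      module
    have hm' : th hf (a + b) z' 1 ∈ M := by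
      have := conj_mem hgM hm
      rwa [conj_th hf (dil_mem_iso hf _ _ _), gw, gz] at this
    have wz' : f (a + b) z' = 0 := by
      rw [hz', f_add_right hf, f_add_right hf, f_smul_right hf, f_smul_right hf, wz, wk, wk']; ring
    have zz : f z' (c + d) = (s - s⁻¹) * (c1 * d1) := by
      rw [hz', hcd, hdd]
      simp only [f_add_left hf, f_add_right hf, f_smul_left hf, f_smul_right hf, f_self hf, ka, kb,
        kk', ak', bk', ak, f_symm_zero hf bk', f_symm_zero hf ak', bk, f_skew hf k' k, f_skew hf b a]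
      ring
    by_cases hc1 : c1 = 0
    · subst hc1
      have hd1 : d1 ≠ 0 := by
        rintro rfl
        have e : f (a + b) (c + d) = f a b * (d0 - c0) := by
          rw [hcd, hdd]
          simp only [f_add_left hf, f_add_right hf, f_smul_right hf, f_self hf, f_skew hf b a,
            zero_smul, add_zero]
          ring
        rw [wz, eq_comm, mul_eq_zero, or_iff_right hab, sub_eq_zero] at e
        exact hind c0 (by rw [hcd, hdd, e]; module)
      have e : z' - (c + d) = ((s⁻¹ - 1) * d1) • k' := by rw [hz']; module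
      have hs' : s⁻¹ - 1 ≠ 0 := by
        intro e'
        exact hs1 (by rw [← inv_inv s, sub_eq_zero.1 e', inv_one, one_pow])
      refine .inr (long_of_pure hf h2 h hS ha hb hb0 (W₂.smul_mem _ hk')
        (smul_ne_zero (mul_ne_zero hs' hd1) ?_) ?_ ?_)
      · rintro rfl; exact one_ne_zero (kk'.symm.trans (f_zero_right hf k))
      · rw [f_smul_right hf, wk', mul_zero]
      · rw [← e]
        exact quot_th hf wz wz' (by rw [zz]; ring) hm hm'
    by_cases hd1 : d1 = 0
    · subst hd1
      have e : z' - (c + d) = ((s - 1) * c1) • k := by rw [hz']; module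
      have hs' : s - 1 ≠ 0 := by
        intro e'
        exact hs1 (by rw [sub_eq_zero.1 e', one_pow])
      refine .inl (pureLeft ha ha0 hb (W₁.smul_mem _ hk) (smul_ne_zero (mul_ne_zero hs' hc1) hk0)
        ?_ ?_)
      · rw [f_smul_right hf, wk, mul_zero]
      · rw [← e]
        exact quot_th hf wz wz' (by rw [zz]; ring) hm hm'
    have hl := comm_th hf wz wz' hm hm'
    rw [zz] at hl
    set l := 2 * ((s - s⁻¹) * (c1 * d1)) with hldef
    have hl0 : l ≠ 0 := by
      refine mul_ne_zero h2 (mul_ne_zero ?_ (mul_ne_zero hc1 hd1))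
      intro e
      apply hs1
      have := congrArg (· * s) e
      simp only [sub_mul, inv_mul_cancel₀ hs0, zero_mul] at this
      linear_combination this
    -- vary the second component
    have shift : ∀ u : F, rt hf (a + b + u • k') l ∈ M := by
      intro u
      have hu := conj_mem (hS a ha k' hk' ak' (-(u / f a b))) hl
      rw [conj_rt hf (th_mem_iso hf _ _ _)] at hu
      convert hu using 2
      rw [th_mulVec hf ak', wk', f_add_left hf, f_self hf, f_skew hf b a]
      match_scalars <;> field_simp <;> ring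
    refine .inr ⟨k', hk', ?_, 2 * l, mul_ne_zero h2 hl0, ?_⟩
    · rintro rfl; exact one_ne_zero (kk'.symm.trans (f_zero_right hf k))
    have := M.mul_mem (M.mul_mem (shift 1) (shift (-1))) (M.inv_mem (M.mul_mem hl hl))
    rw [_root_.mul_inv_rev, rt_inv hf] at this
    convert this using 1
    refine gl_ext fun x => ?_
    simp only [mul_mulVec, rt_mulVec hf, f_add_left hf, f_add_right hf, f_smul_left hf,
      f_smul_right hf, f_self hf, ak', bk', f_symm_zero hf ak', f_symm_zero hf bk', f_skew hf b a]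
    module
  obtain ⟨a, ha, b, hb, rfl⟩ := h.exists_split w
  obtain ⟨c, hc, d, hd, rfl⟩ := h.exists_split z
  have ha0 : a ≠ 0 := fun e => hw2 (by rw [e, zero_add]; exact hb)
  have hb0 : b ≠ 0 := fun e => hw1 (by rw [e, add_zero]; exact ha)
  rcases eq_or_ne c 0 with rfl | hc0
  · rw [zero_add] at wz hm
    exact .inr (long_of_pure hf h2 h hS ha hb hb0 hd (fun e => hz 0 (by rw [e]; simp)) wz hm)
  rcases eq_or_ne d 0 with rfl | hd0
  · rw [add_zero] at wz hm
    exact .inl (pureLeft ha ha0 hb hc hc0 wz hm)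
  by_cases hab : f a b ≠ 0
  · exact torus a b c d ha hb hc hd hab hz wz hm
  push Not at hab
  by_cases hcd : f c d ≠ 0
  · rw [th_comm hf _ _ wz] at hm
    refine torus c d a b hc hd ha hb hcd (fun t e => ?_) (f_symm_zero hf wz) hm
    rcases eq_or_ne t 0 with rfl | ht
    · exact hw1 (by rw [e, zero_smul]; exact W₁.zero_mem)
    · exact hz t⁻¹ (by rw [e, inv_smul_smul₀ ht])
  push Not at hcd
  have ac : f a c = 0 := h.ti₁ a ha c hc
  have bd : f b d = 0 := h.ti₂ b hb d hd
  have ba := f_symm_zero hf hab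
  have bc : f b c = -f a d := by
    simp only [f_add_left hf, f_add_right hf, ac, bd] at wz
    linear_combination wz
  by_cases had : f a d ≠ 0
  · set z' := (c + d) + f a d • (a - b) with hz'
    have hg : th hf a b 1 ∈ M := hS a ha b hb hab 1
    have gw : (th hf a b 1 : Matrix ι ι F) *ᵥ (a + b) = a + b := by
      rw [th_mulVec hf hab]; simp [f_add_left hf, f_self hf, hab, ba]
    have gz : (th hf a b 1 : Matrix ι ι F) *ᵥ (c + d) = z' := by
      rw [th_mulVec hf hab, hz']
      simp only [f_add_left hf, f_skew hf c b, f_skew hf d a, bc, f_symm_zero hf bd,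
        f_symm_zero hf ac]
      module
    have hm' : th hf (a + b) z' 1 ∈ M := by
      have := conj_mem hg hm
      rwa [conj_th hf (th_mem_iso hf _ _ _), gw, gz] at this
    have wz' : f (a + b) z' = 0 := by
      rw [hz', f_add_right hf, wz]
      simp [f_add_left hf, f_smul_right hf, f_sub_right hf, f_self hf, hab, ba]
    have hl := comm_th hf wz wz' hm hm'
    have zz : f z' (c + d) = 2 * f a d ^ 2 := by
      rw [hz']
      simp only [f_add_left hf, f_add_right hf, f_sub_left hf, f_smul_left hf, f_self hf, ac, bd,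
        bc, f_skew hf d c]
      ring
    rw [zz] at hl
    set l := 2 * (2 * f a d ^ 2) with hldef
    have scaled : ∀ t : F, t ≠ 0 → rt hf (a + t • b) l ∈ M := by
      intro t ht
      obtain ⟨g, hgM, hgi, ga, gb⟩ := exists_scale hf h hD ha hb hb0 hab ht
      have := conj_mem hgM hl
      rwa [conj_rt hf hgi, mulVec_add, ga, gb] at this
    refine .inr ⟨b, hb, hb0, 2 * l * (s ^ 2 - 1),
      mul_ne_zero (mul_ne_zero h2 (mul_ne_zero h2 (mul_ne_zero h2 (pow_ne_zero _ had))))
        (sub_ne_zero.2 hs1), ?_⟩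
    have := M.mul_mem (M.mul_mem (scaled s hs0) (scaled (-s) (neg_ne_zero.2 hs0)))
      (M.inv_mem (M.mul_mem (scaled 1 one_ne_zero) (scaled (-1) (neg_ne_zero.2 one_ne_zero))))
    rw [_root_.mul_inv_rev, rt_inv hf, rt_inv hf] at this
    convert this using 1
    refine gl_ext fun x => ?_
    simp only [mul_mulVec, rt_mulVec hf, f_add_left hf, f_add_right hf, f_smul_left hf,
      f_smul_right hf, f_self hf, hab, ba]
    module
  push Not at had
  have bc0 : f b c = 0 := by rw [bc, had, neg_zero]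
  obtain ⟨ν, rfl⟩ : ∃ ν : F, d = ν • b := by
    by_contra hn
    push Not at hn
    exact ha0 (h.eq_zero_of_perp hf ha hb hd hb0 hn hab had)
  obtain ⟨μ, rfl⟩ : ∃ μ : F, c = μ • a := by
    by_contra hn
    push Not at hn
    exact hb0 (h.symm.eq_zero_of_perp hf hb ha hc ha0 hn ba bc0)
  have hX : rt hf a (2 * μ) * rt hf b (2 * ν) ∈ M := by
    have := M.mul_mem hm (M.inv_mem (hS a ha b hb hab (μ + ν)))
    rw [th_inv hf hab] at this
    convert this using 1
    refine gl_ext fun x => ?_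
    simp only [mul_mulVec, rt_mulVec hf, th_mulVec hf wz, th_mulVec hf hab, f_add_left hf,
      f_add_right hf, f_smul_left hf, f_smul_right hf, f_self hf, hab, ba]
    module
  have hν : ν ≠ 0 := by rintro rfl; exact hd0 (zero_smul _ _)
  obtain ⟨g, hgM, hgi, ga, gb⟩ := exists_scale hf h hD ha hb hb0 hab hs0
  refine .inr ⟨b, hb, hb0, 2 * ν * (s ^ 2 - 1),
    mul_ne_zero (mul_ne_zero h2 hν) (sub_ne_zero.2 hs1), ?_⟩
  have := M.mul_mem (conj_mem hgM hX) (M.inv_mem hX)
  rw [show ∀ g x y : GL ι F, g * (x * y) * g⁻¹ = g * x * g⁻¹ * (g * y * g⁻¹) from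
      fun g x y => by group, conj_rt hf hgi, conj_rt hf hgi, ga, gb, _root_.mul_inv_rev, rt_inv hf,
    rt_inv hf] at this
  convert this using 1
  refine gl_ext fun x => ?_
  simp only [mul_mulVec, rt_mulVec hf, f_add_left hf, f_smul_left hf, f_smul_right hf, f_self hf,
    hab, ba]
  module

/-- independent vectors of `W₂` are conjugate under short root elements -/
theorem exists_short_move (h : Polar f W₁ W₂) (hS : Short hf W₁ W₂ M) {u v : ι → F} (hu : u ∈ W₂)
    (hv : v ∈ W₂) (hv0 : v ≠ 0) (hind : ∀ t : F, u ≠ t • v) :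
    ∃ g ∈ M, g ∈ isoGrp f ∧ (g : Matrix ι ι F) *ᵥ u = v := by
  obtain ⟨p, hp, hvp, hup⟩ := h.exists_dual hf hv hu hind
  have d0 : ∀ t : F, v ≠ t • u := fun t e => by
    rcases eq_or_ne t 0 with rfl | ht
    · exact hv0 (by rw [e, zero_smul])
    · exact hind t⁻¹ (by rw [e, inv_smul_smul₀ ht])
  obtain ⟨p', hp', hup', hvp'⟩ := h.exists_dual hf hu hv d0
  have pv : f p v = 0 := f_symm_zero hf hvp
  have p'u : f p' u = 0 := f_symm_zero hf hup'
  refine ⟨th hf p' u (-1) * th hf p v 1, M.mul_mem (hS p' hp' u hu p'u (-1)) (hS p hp v hv pv 1),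
    Subgroup.mul_mem _ (th_mem_iso hf _ _ _) (th_mem_iso hf _ _ _), ?_⟩
  rw [mul_mulVec, th_mulVec hf pv, hup, h.ti₂ u hu v hv, one_mul, one_smul, mul_zero, zero_smul,
    add_zero, th_mulVec hf p'u, f_add_left hf, f_add_left hf, hup', hvp', f_self hf,
    h.ti₂ v hv u hu]
  module

/-- one long root element gives the whole root groups on its side -/
theorem rootIn_of_long (h2 : (2 : F) ≠ 0) (h : Polar f W₁ W₂) (hS : Short hf W₁ W₂ M)
    {y : ι → F} (hy : y ∈ W₂) (hy0 : y ≠ 0) {l : F} (hl : l ≠ 0) (hyl : rt hf y l ∈ M) :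
    ∀ v ∈ W₂, RootIn hf M v := by
  have inv : ∀ u v : ι → F, u ≠ 0 → (∀ t : F, v ≠ t • u) → ∀ t : F, u ≠ t • v := by
    intro u v hu hind t e
    rcases eq_or_ne t 0 with rfl | ht
    · exact hu (by rw [e, zero_smul])
    · exact hind t⁻¹ (by rw [e, inv_smul_smul₀ ht])
  obtain ⟨v0, hv0, hv0i⟩ : ∃ v ∈ W₂, ∀ t : F, v ≠ t • y := by
    by_contra hc
    push Not at hc
    have hle : W₂ ≤ Submodule.span F {y} := fun v hv => by
      obtain ⟨t, rfl⟩ := hc v hv
      exact Submodule.smul_mem _ _ (Submodule.mem_span_singleton_self y)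
    have := Submodule.finrank_mono hle
    rw [finrank_span_singleton hy0] at this
    have := h.dim₂
    omega
  have hv00 : v0 ≠ 0 := fun e => hv0i 0 (by rw [e, zero_smul])
  have hsq : ∀ s : F, rt hf y (l * s ^ 2) ∈ M := by
    intro s
    rcases eq_or_ne s 0 with rfl | hs
    · simp [rt_zero hf]
    obtain ⟨g, hg, hgi, hgy⟩ := exists_short_move hf h hS hy hv0 hv00 (inv _ _ hy0 hv0i)
    have h1 := conj_mem hg hyl
    rw [conj_rt hf hgi, hgy] at h1
    obtain ⟨g', hg', hgi', hgv⟩ := exists_short_move hf h hS hv0 (W₂.smul_mem s hy)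
      (smul_ne_zero hs hy0) (fun t => by rw [smul_smul]; exact hv0i _)
    have h3 := conj_mem hg' h1
    rwa [conj_rt hf hgi', hgv, rt_smul_vec hf] at h3
  have base : RootIn hf M y := by
    intro t
    have e : t = l * ((t / l + 1) / 2) ^ 2 + -(l * ((t / l - 1) / 2) ^ 2) := by field_simp; ring
    rw [e, ← rt_add hf, ← rt_inv hf]
    exact M.mul_mem (hsq _) (M.inv_mem (hsq _))
  intro v hv
  by_cases hdep : ∃ t : F, v = t • y
  · obtain ⟨t, rfl⟩ := hdep
    exact base.smul hf t
  · push Not at hdep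
    have hv0' : v ≠ 0 := fun e => hdep 0 (by rw [e, zero_smul])
    obtain ⟨g, hg, hgi, hgy⟩ := exists_short_move hf h hS hy hv hv0' (inv _ _ hy0 hdep)
    exact hgy ▸ base.conj hf hg hgi

/-- an isometry exchanging the members of a polarization -/
theorem exists_polar_swap (h : Polar f W₁ W₂) (hd : Module.finrank F W₁ = Module.finrank F W₂) :
    ∃ w ∈ isoGrp f, (∀ x ∈ W₁, (w : Matrix ι ι F) *ᵥ x ∈ W₂) ∧
      ∀ x ∈ W₂, (w : Matrix ι ι F) *ᵥ x ∈ W₁ := by
  set n := Module.finrank F W₁
  let b := Module.finBasis F W₁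
  let L : W₂ →ₗ[F] (Fin n → F) :=
    { toFun := fun q i => f (b i : ι → F) q
      map_add' := fun x y => by ext i; simp [f_add_right hf]
      map_smul' := fun t x => by ext i; simp [f_smul_right hf] }
  have hspan : ∀ x ∈ W₁, x ∈ Submodule.span F (Set.range fun i => (b i : ι → F)) := by
    intro x hx
    have := congrArg Subtype.val (b.sum_repr ⟨x, hx⟩)
    simp only [AddSubmonoidClass.coe_finset_sum, SetLike.val_smul] at this
    rw [← this]
    exact Submodule.sum_mem _ fun i _ => Submodule.smul_mem _ _ (Submodule.subset_span ⟨i, rfl⟩)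
  have hLi : Function.Injective L := by
    rw [← LinearMap.ker_eq_bot, LinearMap.ker_eq_bot']
    intro q hq
    by_contra hq0
    obtain ⟨y, hy⟩ := exists_f_eq_one hf (show (q : ι → F) ≠ 0 by simpa using hq0)
    obtain ⟨p, hp, r, hr, rfl⟩ := h.exists_split y
    rw [f_add_right hf, h.ti₂ _ q.2 r hr, add_zero] at hy
    have hz : f (q : ι → F) p = 0 := by
      have hp' := hspan p hp
      clear hy hp
      induction hp' using Submodule.span_induction with
      | mem z hz => obtain ⟨i, rfl⟩ := hz; exact f_symm_zero hf (congrFun hq i)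
      | zero => exact f_zero_right hf _
      | add x y _ _ hx hy => rw [f_add_right hf, hx, hy, add_zero]
      | smul c x _ hx => rw [f_smul_right hf, hx, mul_zero]
    exact one_ne_zero (hy.symm.trans hz)
  have hLs : Function.Surjective L :=
    (LinearMap.injective_iff_surjective_of_finrank_eq_finrank
      (by rw [Module.finrank_fin_fun, ← hd])).1 hLi
  choose e' he' using fun i : Fin n => hLs (Pi.single i 1)
  have pair : ∀ i j, f (b i : ι → F) (e' j : ι → F) = if i = j then 1 else 0 := by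
    intro i j
    have := congrFun (he' j) i
    simpa [L, Pi.single_apply] using this
  have step : ∀ s : Finset (Fin n), ∃ w ∈ isoGrp f,
      (∀ i, (w : Matrix ι ι F) *ᵥ (b i : ι → F) = if i ∈ s then (e' i : ι → F) else (b i : ι → F)) ∧
      ∀ i, (w : Matrix ι ι F) *ᵥ (e' i : ι → F) = if i ∈ s then -(b i : ι → F) else (e' i : ι → F) := by
    intro s
    induction s using Finset.induction_on with
    | empty => exact ⟨1, Subgroup.one_mem _, by simp, by simp⟩
    | @insert k s hk ih =>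
      obtain ⟨w, hw, w1, w2⟩ := ih
      set R := rt hf (b k : ι → F) 1 * rt hf (e' k : ι → F) 1 * rt hf (b k : ι → F) 1 with hR
      have hkk : f (b k : ι → F) (e' k : ι → F) = 1 := by rw [pair, if_pos rfl]
      have R1 : (R : Matrix ι ι F) *ᵥ (b k : ι → F) = (e' k : ι → F) := by
        simp only [hR, mul_mulVec, rt_mulVec hf, f_add_left hf, f_smul_left hf, f_self hf,
          f_skew hf (e' k : ι → F) (b k : ι → F), hkk]
        module
      have R2 : (R : Matrix ι ι F) *ᵥ (e' k : ι → F) = -(b k : ι → F) := by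
        simp only [hR, mul_mulVec, rt_mulVec hf, f_add_left hf, f_smul_left hf, f_self hf,
          f_skew hf (e' k : ι → F) (b k : ι → F), hkk]
        module
      have Rb : ∀ i, i ≠ k → (R : Matrix ι ι F) *ᵥ (b i : ι → F) = (b i : ι → F) := by
        intro i hi
        simp only [hR, mul_mulVec, rt_fix hf (h.ti₁ _ (b i).2 _ (b k).2),
          rt_fix hf (show f (b i : ι → F) (e' k : ι → F) = 0 by rw [pair, if_neg hi])]
      have Re : ∀ i, i ≠ k → (R : Matrix ι ι F) *ᵥ (e' i : ι → F) = (e' i : ι → F) := by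
        intro i hi
        simp only [hR, mul_mulVec, rt_fix hf (h.ti₂ _ (e' i).2 _ (e' k).2),
          rt_fix hf (f_symm_zero hf (show f (b k : ι → F) (e' i : ι → F) = 0 by
            rw [pair, if_neg (Ne.symm hi)]))]
      have hRi : R ∈ isoGrp f :=
        Subgroup.mul_mem _ (Subgroup.mul_mem _ (rt_mem_iso hf _ _) (rt_mem_iso hf _ _))
          (rt_mem_iso hf _ _)
      refine ⟨R * w, Subgroup.mul_mem _ hRi hw, fun i => ?_, fun i => ?_⟩
      · rw [mul_mulVec, w1]
        rcases eq_or_ne i k with rfl | hik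
        · rw [if_neg hk, R1, if_pos (Finset.mem_insert_self i s)]
        · by_cases his : i ∈ s
          · rw [if_pos his, Re i hik, if_pos (Finset.mem_insert_of_mem his)]
          · rw [if_neg his, Rb i hik, if_neg (by simp [hik, his])]
      · rw [mul_mulVec, w2]
        rcases eq_or_ne i k with rfl | hik
        · rw [if_neg hk, R2, if_pos (Finset.mem_insert_self i s)]
        · by_cases his : i ∈ s
          · rw [if_pos his, mulVec_neg, Rb i hik, if_pos (Finset.mem_insert_of_mem his)]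
          · rw [if_neg his, Re i hik, if_neg (by simp [hik, his])]
  obtain ⟨w, hw, w1, w2⟩ := step Finset.univ
  refine ⟨w, hw, fun x hx => ?_, fun x hx => ?_⟩
  · have hx' := hspan x hx
    clear hx
    induction hx' using Submodule.span_induction with
    | mem z hz => obtain ⟨i, rfl⟩ := hz; rw [w1, if_pos (Finset.mem_univ i)]; exact (e' i).2
    | zero => rw [mulVec_zero]; exact W₂.zero_mem
    | add x y _ _ hx hy => rw [mulVec_add]; exact W₂.add_mem hx hy
    | smul c x _ hx => rw [mulVec_smul]; exact W₂.smul_mem c hx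
  · have hx' : x = ∑ i, f (b i : ι → F) x • (e' i : ι → F) := by
      have : (⟨x, hx⟩ : W₂) = ∑ i, f (b i : ι → F) x • e' i := by
        apply hLi
        rw [map_sum]
        simp only [map_smul, he']
        exact pi_eq_sum_univ' _
      have := congrArg Subtype.val this
      simpa using this
    rw [hx', mulVec_sum]
    refine Submodule.sum_mem _ fun i _ => ?_
    rw [mulVec_smul, w2, if_pos (Finset.mem_univ i)]
    exact W₁.smul_mem _ (W₁.neg_mem (b i).2)

end Cfsg.Agent.H57.SympFour
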